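import Cfsg.Agent.Mrg.Omega.NO3S.Pas.Inst
import Cfsg.Agent.Mrg.Omega.NOne.Flat.Conj
import Cfsg.Agent.Mrg.Omega.NOne.Flat.Off
import Cfsg.Agent.Mrg.Omega.NO3S.Level.Cut
import Cfsg.Agent.Mrg.Omega.Spread.ElatOf

-- merged: Cfsg.Agent.Mrg.Omega.NO3S.Pas.FrT
section

section


/-!
# GammaFF: galleries of good lines for a set `𝒯` of types (family version of `NOThreeL/Low/LA/Front.lean`, helper876)

`𝒯 ⊆ P*(S)` a set of minimal parabolics, `M ≤ N_G(V)` a group containing all `P ∈ 𝒯`, `F` a maximal bad subgroup of `V`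
(`Flat.Hyp V F`), `X = C_G(F)`, `R = O₂(X)`, `E = V ∩ R = EE V F`, `W = ⟨E^X⟩ = WW V F`.

A *chamber* is an element `g` of `M` (standing for `S^g = MulAut.conj g • S`); its lines are `V_P^g`,
`P ∈ 𝒯`; a line is *good* if it is contained in `E`.

* `ChT 𝒯 M S W n g` : `g` is at `𝒯`-gallery distance at most `n` from a chamber `a ∈ M` with `W ≤ S^a`;
* `FrT 𝒯 S M V F n` : all lines of chambers at distance `< n` are good, `1` is at distance `≤ n`;
* `FrT.gal`, `BBT 𝒯 M S V F n`, `FrT.B_comm`, `FrT.B_sq`, `FrT.X_norm_B`, `FrT.B_le_W`, `FrT.B_le_conj`, `FrT.cent_le_conj`;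
* `BLT 𝒯 M S V F n = BBT ⊔ F`; `bhT` : `BH V F BLT`; `fr_threeT`, `fr_keyT`, `fr_spanT`: the KEY (3) of helper876 for a bad
  line of type `Tp` at distance `≤ n`;
* `exists_frT` : if `⟨Z^M⟩ ≰ E`, `M = ⟨𝒯⟩`, then some `M`-conjugate of `F` has a front with a bad line `V_P`, `P ∈ 𝒯`.
-/

set_option autoImplicit false
set_option linter.unusedSectionVars false

namespace Cfsg.Agent.Omega.NO3S.Pas

open Subgroup Cfsg Cfsg.Agent.ZN Cfsg.Agent.Omega.MinPar Cfsg.Agent.Omega.Frame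
open Cfsg.Agent.Omega.FrameNOFF
open Cfsg.Agent.Omega.NoFF.Basic (V conj_conj mem_conj conj_le_iff conj_le_centralizer comm_symm comm_mono
  Z_le_V V_le conj_V_mul Sys Gal conj_Z_le conj_self)
open Cfsg.Agent.Omega.NOne.Flat (EE Bad NN BadX Cos card_mul_relIndex' conj_eq_of_norm conj_centralizer WW_conj
  EE_conj conj_eq_of_cent)
open Cfsg.Agent.Omega.NOne.NearFF (c)
open Cfsg.Agent.Omega.NOThreeL.Low (Tp Blk)
open Cfsg.Agent.Omega.NOThreeL.Low.Key (BH)
open scoped Pointwise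

universe u

variable {G : Type u} [Group G]

/-- `g` is at distance at most `n` from a chamber `a ∈ M` with `W ≤ S^a`. -/
def ChT (𝒯 : Set (Subgroup G)) (M S W : Subgroup G) (n : ℕ) (g : G) : Prop :=
  ∃ a, a ∈ M ∧ W ≤ MulAut.conj a • S ∧ Gal 𝒯 n a g

/-- The good lines of the chambers at distance `≤ n`. -/
def GdT (𝒯 : Set (Subgroup G)) (M S V F : Subgroup G) (n : ℕ) : Set (Subgroup G) :=
  {l | ∃ j ≤ n, ∃ g, ChT 𝒯 M S (NOne.Flat.WW V F) j g ∧ ∃ P, P ∈ 𝒯 ∧ l = MulAut.conj g • zl S P ∧ l ≤ EE V F}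

/-- `B`: generated by the `X`-conjugates of the good lines of the chambers at distance `≤ n`. -/
def BBT (𝒯 : Set (Subgroup G)) (M S V F : Subgroup G) (n : ℕ) : Subgroup G :=
  sSup {A | ∃ l ∈ GdT 𝒯 M S V F n, ∃ x ∈ centralizer (F : Set G), A = MulAut.conj x • l}

/-- **The front**: all lines of chambers at distance `< n` are good, `1` is at distance `≤ n`. -/
structure FrT [Finite G] (𝒯 : Set (Subgroup G)) (S : Sylow 2 G) (M V F : Subgroup G) (n : ℕ) : Prop where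
  hc : IsCharacteristicTwoType G
  noff : ¬ FF (S : Subgroup G)
  hyp : NOne.Flat.Hyp V F
  TT : ∀ P ∈ 𝒯, IsParS (S : Subgroup G) P
  PM : ∀ P, P ∈ 𝒯 → P ≤ M
  MV : M ≤ normalizer (V : Set G)
  ZV : zc (S : Subgroup G) ≤ V
  least : ∀ j < n, ∀ g, ChT 𝒯 M (S : Subgroup G) (NOne.Flat.WW V F) j g → ∀ P, P ∈ 𝒯 →
    MulAut.conj g • zl (S : Subgroup G) P ≤ EE V F
  one : ChT 𝒯 M (S : Subgroup G) (NOne.Flat.WW V F) n 1

/-! ### chambers -/

section ch

variable {𝒯 : Set (Subgroup G)} {M S W : Subgroup G}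

theorem ChT.mul {n : ℕ} {g : G} (h : ChT 𝒯 M S W n g) {P : Subgroup G} (hP : P ∈ 𝒯) {p : G} (hp : p ∈ P) :
    ChT 𝒯 M S W (n + 1) (g * p) := by
  obtain ⟨a, ha, haW, hg⟩ := h
  exact ⟨a, ha, haW, hg.step hP hp⟩

theorem ChT.mem (hM : ∀ P, P ∈ 𝒯 → P ≤ M) {n : ℕ} {g : G} (h : ChT 𝒯 M S W n g) : g ∈ M := by
  obtain ⟨a, ha, -, hg⟩ := h
  induction hg with
  | zero => exact ha
  | step _ hP hp ih => exact mul_mem (ih ha) (hM _ hP hp)

theorem ChT.zero_le {g : G} (h : ChT 𝒯 M S W 0 g) : W ≤ MulAut.conj g • S := by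
  obtain ⟨a, _, haW, hg⟩ := h
  cases hg
  exact haW

/-- the last step of a gallery -/
theorem ChT.last {n : ℕ} {g : G} (h : ChT 𝒯 M S W (n + 1) g) :
    ∃ P, P ∈ 𝒯 ∧ ∃ p ∈ P, ∃ g', ChT 𝒯 M S W n g' ∧ g = g' * p := by
  obtain ⟨a, ha, haW, hg⟩ := h
  cases hg with
  | @step _ _ g' p P hg hP hp => exact ⟨P, hP, p, hp, g', ⟨a, ha, haW, hg⟩, rfl⟩

theorem ChT.mono {n k : ℕ} (hnk : n ≤ k) (hne : 𝒯.Nonempty) {g : G} (h : ChT 𝒯 M S W n g) :
    ChT 𝒯 M S W k g := by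
  obtain ⟨P, hP⟩ := hne
  induction hnk with
  | refl => exact h
  | step _ ih =>
    have := ih.mul hP (one_mem P)
    rwa [mul_one] at this

end ch

namespace FrT

variable [Finite G] {𝒯 : Set (Subgroup G)} {S : Sylow 2 G} {M V F : Subgroup G} {n : ℕ} (h : FrT 𝒯 S M V F n)
include h

theorem sys : Sys (S : Subgroup G) (zc (S : Subgroup G)) (PS (S : Subgroup G)) :=
  FrameNOFF.sys h.hc S h.noff

/-- `C_{S^g}(V_P^g) ≤ S^{gp}` -/
theorem pass {P : Subgroup G} (hP : P ∈ 𝒯) {g p : G} (hp : p ∈ P) {A : Subgroup G}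
    (hA : A ≤ MulAut.conj g • (S : Subgroup G))
    (hc : A ≤ centralizer ((MulAut.conj g • zl (S : Subgroup G) P : Subgroup G) : Set G)) :
    A ≤ MulAut.conj (g * p) • (S : Subgroup G) :=
  h.sys.pass (h.TT _ hP) hp hA fun _ hp' => comm_mono hc le_rfl (conj_Z_le hp')

theorem zl_le_V {P : Subgroup G} (hP : P ∈ 𝒯) : zl (S : Subgroup G) P ≤ V :=
  MinSimple.VModule.zl_le h.ZV ((h.PM P hP).trans h.MV)

theorem conj_V {g : G} (hg : g ∈ M) : MulAut.conj g • V = V := NOne.Flat.conj_eq_of_norm (h.MV hg)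

theorem line_le_V {g : G} (hg : g ∈ M) {P : Subgroup G} (hP : P ∈ 𝒯) :
    MulAut.conj g • zl (S : Subgroup G) P ≤ V := by
  rw [← h.conj_V hg]
  exact conj_le_iff.2 (h.zl_le_V hP)

theorem mem_M {j : ℕ} {g : G} (hg : ChT 𝒯 M (S : Subgroup G) (NOne.Flat.WW V F) j g) : g ∈ M := hg.mem h.PM

omit [Finite G] h in
theorem conj_conj_inv (x : G) (A : Subgroup G) : MulAut.conj x • (MulAut.conj x⁻¹ • A) = A := by
  rw [conj_conj, mul_inv_cancel, map_one, one_smul]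

/-- `l^x ≤ S^{g'}`, from (GAL) for smaller distances -/
theorem gal_le {k : ℕ} (ih : ∀ m < k, ∀ i j : ℕ, i + j = m → i ≤ n → j ≤ n → ∀ g g' : G,
    ChT 𝒯 M (S : Subgroup G) (NOne.Flat.WW V F) i g → ChT 𝒯 M (S : Subgroup G) (NOne.Flat.WW V F) j g' →
    ∀ P P' : Subgroup G, P ∈ 𝒯 → P' ∈ 𝒯 →
    MulAut.conj g • zl (S : Subgroup G) P ≤ EE V F → MulAut.conj g' • zl (S : Subgroup G) P' ≤ EE V F →
    ∀ x ∈ centralizer (F : Set G),
      MulAut.conj (x * g) • zl (S : Subgroup G) P ≤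
        centralizer ((MulAut.conj g' • zl (S : Subgroup G) P' : Subgroup G) : Set G))
    {i : ℕ} (hi : i ≤ n) {g : G} (hg : ChT 𝒯 M (S : Subgroup G) (NOne.Flat.WW V F) i g)
    {P : Subgroup G} (hP : P ∈ 𝒯) (hl : MulAut.conj g • zl (S : Subgroup G) P ≤ EE V F)
    {x : G} (hx : x ∈ centralizer (F : Set G)) :
    ∀ j : ℕ, i + j ≤ k → j ≤ n → ∀ g' : G, ChT 𝒯 M (S : Subgroup G) (NOne.Flat.WW V F) j g' →
      MulAut.conj (x * g) • zl (S : Subgroup G) P ≤ MulAut.conj g' • (S : Subgroup G) := by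
  intro j
  induction j with
  | zero =>
    intro _ _ g' hg'
    refine le_trans ?_ hg'.zero_le
    rw [← conj_conj]
    exact (conj_le_iff.2 hl).trans (NOne.Flat.Hyp.conjE_le_W hx)
  | succ j ihj =>
    intro hij hj g' hg'
    obtain ⟨P', hP', p, hp, g'', hg'', rfl⟩ := hg'.last
    have h1 := h.least j (by omega) g'' hg'' P' hP'
    have h2 := ih (i + j) (by omega) i j rfl hi (by omega) g g'' hg hg'' P P' hP hP' hl h1 x hx
    exact h.pass hP' hp (ihj (by omega) (by omega) g'' hg'') h2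

/-- **(GAL)** -/
theorem gal_aux (k : ℕ) : ∀ i j : ℕ, i + j = k → i ≤ n → j ≤ n → ∀ g g' : G,
    ChT 𝒯 M (S : Subgroup G) (NOne.Flat.WW V F) i g → ChT 𝒯 M (S : Subgroup G) (NOne.Flat.WW V F) j g' →
    ∀ P P' : Subgroup G, P ∈ 𝒯 → P' ∈ 𝒯 →
    MulAut.conj g • zl (S : Subgroup G) P ≤ EE V F → MulAut.conj g' • zl (S : Subgroup G) P' ≤ EE V F →
    ∀ x ∈ centralizer (F : Set G),
      MulAut.conj (x * g) • zl (S : Subgroup G) P ≤
        centralizer ((MulAut.conj g' • zl (S : Subgroup G) P' : Subgroup G) : Set G) := by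
  induction k using Nat.strong_induction_on with
  | _ k ih =>
    intro i j hij hi hj g g' hg hg' P P' hP hP' hl hl' x hx
    have h1 := h.gal_le ih hi hg hP hl hx j (by omega) hj g' hg'
    have h2 := h.gal_le ih hj hg' hP' hl' (inv_mem hx) i (by omega) hi g hg
    refine h.sys.noff' (h.TT _ hP) (h.TT _ hP') (h1.trans (conj_le_iff.2 (h.TT _ hP').le)) ?_
    have h3 := conj_le_iff (g := x).2 h2
    rw [conj_conj, conj_conj, mul_inv_cancel_left] at h3
    exact h3.trans (conj_le_iff.2 (h.TT _ hP).le)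

/-- **(GAL)**: good lines at distance `≤ n`: `[l^x, l'] = 1` for `x ∈ X`. -/
theorem gal {i j : ℕ} (hi : i ≤ n) (hj : j ≤ n) {g g' : G} (hg : ChT 𝒯 M (S : Subgroup G) (NOne.Flat.WW V F) i g)
    (hg' : ChT 𝒯 M (S : Subgroup G) (NOne.Flat.WW V F) j g') {P P' : Subgroup G} (hP : P ∈ 𝒯)
    (hP' : P' ∈ 𝒯) (hl : MulAut.conj g • zl (S : Subgroup G) P ≤ EE V F)
    (hl' : MulAut.conj g' • zl (S : Subgroup G) P' ≤ EE V F) {x : G} (hx : x ∈ centralizer (F : Set G)) :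
    MulAut.conj (x * g) • zl (S : Subgroup G) P ≤
      centralizer ((MulAut.conj g' • zl (S : Subgroup G) P' : Subgroup G) : Set G) :=
  h.gal_aux _ i j rfl hi hj g g' hg hg' P P' hP hP' hl hl' x hx

/-- **(GAL)**: `l^x ≤ S^{g'}`. -/
theorem gal_le_S {i j : ℕ} (hi : i ≤ n) (hj : j ≤ n) {g g' : G} (hg : ChT 𝒯 M (S : Subgroup G) (NOne.Flat.WW V F) i g)
    (hg' : ChT 𝒯 M (S : Subgroup G) (NOne.Flat.WW V F) j g') {P : Subgroup G} (hP : P ∈ 𝒯)
    (hl : MulAut.conj g • zl (S : Subgroup G) P ≤ EE V F) {x : G} (hx : x ∈ centralizer (F : Set G)) :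
    MulAut.conj (x * g) • zl (S : Subgroup G) P ≤ MulAut.conj g' • (S : Subgroup G) :=
  h.gal_le (k := i + j) (fun m _ => h.gal_aux m) hi hg hP hl hx j le_rfl hj g' hg'

/-! ### the group `B` -/

omit [Finite G] h in
theorem le_BB {l : Subgroup G} (hl : l ∈ GdT 𝒯 M (S : Subgroup G) V F n) {x : G}
    (hx : x ∈ centralizer (F : Set G)) : MulAut.conj x • l ≤ BBT 𝒯 M (S : Subgroup G) V F n :=
  le_sSup ⟨l, hl, x, hx, rfl⟩

omit [Finite G] h in
theorem le_BB' {l : Subgroup G} (hl : l ∈ GdT 𝒯 M (S : Subgroup G) V F n) :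
    l ≤ BBT 𝒯 M (S : Subgroup G) V F n := by
  have := le_BB hl (one_mem (centralizer (F : Set G)))
  rwa [map_one, one_smul] at this

omit [Finite G] h in
theorem BB_le {A : Subgroup G} (hA : ∀ l ∈ GdT 𝒯 M (S : Subgroup G) V F n, ∀ x ∈ centralizer (F : Set G),
    MulAut.conj x • l ≤ A) : BBT 𝒯 M (S : Subgroup G) V F n ≤ A :=
  sSup_le (by rintro _ ⟨l, hl, x, hx, rfl⟩; exact hA l hl x hx)

omit [Finite G] h in
theorem mem_Gd {j : ℕ} (hj : j ≤ n) {g : G} (hg : ChT 𝒯 M (S : Subgroup G) (NOne.Flat.WW V F) j g) {P : Subgroup G}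
    (hP : P ∈ 𝒯) (hl : MulAut.conj g • zl (S : Subgroup G) P ≤ EE V F) :
    MulAut.conj g • zl (S : Subgroup G) P ∈ GdT 𝒯 M (S : Subgroup G) V F n :=
  ⟨j, hj, g, hg, P, hP, rfl, hl⟩

/-- a line of a chamber at distance `< n` -/
theorem mem_Gd_of_lt {j : ℕ} (hj : j < n) {g : G} (hg : ChT 𝒯 M (S : Subgroup G) (NOne.Flat.WW V F) j g)
    {P : Subgroup G} (hP : P ∈ 𝒯) :
    MulAut.conj g • zl (S : Subgroup G) P ∈ GdT 𝒯 M (S : Subgroup G) V F n :=
  mem_Gd hj.le hg hP (h.least j hj g hg P hP)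

omit [Finite G] h in
theorem conj_BB {y : G} (hy : y ∈ centralizer (F : Set G)) :
    MulAut.conj y • BBT 𝒯 M (S : Subgroup G) V F n = BBT 𝒯 M (S : Subgroup G) V F n := by
  have key : ∀ y ∈ centralizer (F : Set G),
      BBT 𝒯 M (S : Subgroup G) V F n ≤ MulAut.conj y • BBT 𝒯 M (S : Subgroup G) V F n := by
    intro y hy
    refine BB_le fun l hl x hx => ?_
    have h1 := le_BB hl (mul_mem (inv_mem hy) hx)
    have h2 := conj_le_iff (g := y).2 h1
    rwa [conj_conj, mul_inv_cancel_left] at h2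
  refine le_antisymm ?_ (key y hy)
  have h1 := conj_le_iff (g := y).2 (key y⁻¹ (inv_mem hy))
  rwa [conj_conj_inv] at h1

omit [Finite G] h in
/-- `X` normalises `B`. -/
theorem X_norm_B : centralizer (F : Set G) ≤ normalizer (BBT 𝒯 M (S : Subgroup G) V F n : Set G) := by
  intro y hy
  rw [mem_normalizer_iff]
  intro b
  constructor
  · intro hb
    rw [← conj_BB hy, mem_conj]
    simpa [mul_assoc] using hb
  · intro hb
    rw [← conj_BB hy, mem_conj] at hb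
    simpa [mul_assoc] using hb

omit [Finite G] h in
/-- `B ≤ W` -/
theorem B_le_W : BBT 𝒯 M (S : Subgroup G) V F n ≤ NOne.Flat.WW V F := by
  refine BB_le ?_
  rintro _ ⟨j, -, g, -, P, -, rfl, hl⟩ x hx
  exact (conj_le_iff.2 hl).trans (NOne.Flat.Hyp.conjE_le_W hx)

/-- `B` is abelian. -/
theorem B_comm : BBT 𝒯 M (S : Subgroup G) V F n ≤ centralizer (BBT 𝒯 M (S : Subgroup G) V F n : Set G) := by
  refine BB_le ?_
  rintro _ ⟨i, hi, g, hg, P, hP, rfl, hl⟩ x hx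
  refine comm_symm (BB_le ?_)
  rintro _ ⟨j, hj, g', hg', P', hP', rfl, hl'⟩ x' hx'
  refine comm_symm ?_
  have h1 := h.gal hi hj hg hg' hP hP' hl hl' (mul_mem (inv_mem hx') hx)
  have h2 := conj_le_centralizer (g := x') h1
  rwa [conj_conj, ← mul_assoc, mul_inv_cancel_left, ← conj_conj] at h2

theorem B_sq : ∀ b ∈ BBT 𝒯 M (S : Subgroup G) V F n, b ^ 2 = 1 := by
  let K : Subgroup G :=
    { carrier := {b | b ∈ BBT 𝒯 M (S : Subgroup G) V F n ∧ b ^ 2 = 1}
      one_mem' := ⟨one_mem _, one_pow _⟩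
      mul_mem' := by
        rintro a b ⟨ha, ha2⟩ ⟨hb, hb2⟩
        refine ⟨mul_mem ha hb, ?_⟩
        have hcm : Commute a b := (mem_centralizer_iff.1 (h.B_comm ha) b hb).symm
        rw [hcm.mul_pow, ha2, hb2, one_mul]
      inv_mem' := by
        rintro a ⟨ha, ha2⟩
        exact ⟨inv_mem ha, by rw [inv_pow, ha2, inv_one]⟩ }
  have h1 : BBT 𝒯 M (S : Subgroup G) V F n ≤ K := by
    refine BB_le fun l hl x hx => ?_
    intro b hb
    refine ⟨le_BB hl hx hb, ?_⟩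
    obtain ⟨j, -, g, -, P, -, rfl, hl'⟩ := hl
    rw [mem_conj] at hb
    have h2 := h.hyp.sq _ (hl' hb).1
    have e : b ^ 2 = x * (x⁻¹ * b * x) ^ 2 * x⁻¹ := by rw [pow_two, pow_two]; group
    rw [e, h2]; group
  exact fun b hb => (h1 hb).2

/-- `B ≤ S^g` for every chamber `g` at distance `≤ n`. -/
theorem B_le_conj {j : ℕ} (hj : j ≤ n) {g : G} (hg : ChT 𝒯 M (S : Subgroup G) (NOne.Flat.WW V F) j g) :
    BBT 𝒯 M (S : Subgroup G) V F n ≤ MulAut.conj g • (S : Subgroup G) := by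
  refine BB_le ?_
  rintro _ ⟨i, hi, g', hg', P, hP, rfl, hl⟩ x hx
  rw [conj_conj]
  exact h.gal_le_S hi hj hg' hg hP hl hx

/-- `B ≤ S` -/
theorem B_le_S : BBT 𝒯 M (S : Subgroup G) V F n ≤ (S : Subgroup G) := by
  have := h.B_le_conj le_rfl h.one
  rwa [map_one, one_smul] at this

/-- A subgroup of `W` which centralises `B` is contained in `S^g` for every chamber `g` at distance `≤ n`. -/
theorem le_conj_of_cent {A : Subgroup G} (hA : A ≤ NOne.Flat.WW V F)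
    (hAB : A ≤ centralizer (BBT 𝒯 M (S : Subgroup G) V F n : Set G)) :
    ∀ j ≤ n, ∀ g : G, ChT 𝒯 M (S : Subgroup G) (NOne.Flat.WW V F) j g → A ≤ MulAut.conj g • (S : Subgroup G) := by
  intro j
  induction j with
  | zero =>
    intro _ g hg
    exact hA.trans hg.zero_le
  | succ j ih =>
    intro hj g hg
    obtain ⟨P, hP, p, hp, g', hg', rfl⟩ := hg.last
    refine h.pass hP hp (ih (by omega) g' hg') ?_
    exact comm_mono hAB le_rfl (le_BB' (h.mem_Gd_of_lt (by omega) hg' hP))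

/-- `C_W(B) ≤ S` -/
theorem cent_le_S : NOne.Flat.WW V F ⊓ centralizer (BBT 𝒯 M (S : Subgroup G) V F n : Set G) ≤ (S : Subgroup G) := by
  have := h.le_conj_of_cent inf_le_left inf_le_right n le_rfl 1 h.one
  rwa [map_one, one_smul] at this

/-! ### (B1) -/

theorem B_norm_V : BBT 𝒯 M (S : Subgroup G) V F n ≤ normalizer (V : Set G) := B_le_W.trans h.hyp.W_norm_V

theorem V_norm_B : V ≤ normalizer (BBT 𝒯 M (S : Subgroup G) V F n : Set G) := h.hyp.V_le_X.trans X_norm_B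

/-- **(B1)** `[V, B] ≤ V ∩ B` -/
theorem comm_VB {v b : G} (hv : v ∈ V) (hb : b ∈ BBT 𝒯 M (S : Subgroup G) V F n) :
    c v b ∈ V ⊓ BBT 𝒯 M (S : Subgroup G) V F n := by
  refine ⟨h.hyp.c_memV hv (B_le_W hb), ?_⟩
  have h1 := (mem_normalizer_iff.1 (h.V_norm_B hv) b).1 hb
  have e : c v b = v * b * v⁻¹ * b⁻¹ := NOne.NearFF.c_def v b
  rw [e]
  exact (BBT 𝒯 M (S : Subgroup G) V F n).mul_mem h1 ((BBT 𝒯 M (S : Subgroup G) V F n).inv_mem hb)

/-- the adjacent chamber at distance `n - 1` -/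
theorem exists_adj {k : ℕ} (hn : n = k + 1) : ∃ R, R ∈ 𝒯 ∧ ∃ m ∈ R,
    ChT 𝒯 M (S : Subgroup G) (NOne.Flat.WW V F) k m := by
  have h1 := h.one
  rw [hn] at h1
  obtain ⟨R, hR, p, hp, g, hg, e⟩ := h1.last
  have e2 : g = p⁻¹ := eq_inv_of_mul_eq_one_left e.symm
  refine ⟨R, hR, p⁻¹, R.inv_mem hp, ?_⟩
  rwa [← e2]

end FrT


section sup

variable [Finite G] {𝒯 : Set (Subgroup G)} {S : Sylow 2 G} {M V F : Subgroup G} {n : ℕ}

omit [Finite G] in
/-- `B` centralises `F`. -/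
theorem FrT.B_cent_F : BBT 𝒯 M (S : Subgroup G) V F n ≤ centralizer (F : Set G) :=
  FrT.B_le_W.trans NOne.Flat.Hyp.W_le_X

theorem FrT.sup_comm (h : FrT 𝒯 S M V F n) : BBT 𝒯 M (S : Subgroup G) V F n ⊔ F ≤
    centralizer ((BBT 𝒯 M (S : Subgroup G) V F n ⊔ F : Subgroup G) : Set G) := by
  have hFF : F ≤ centralizer (F : Set G) := h.hyp.F_le_V.trans h.hyp.V_le_X
  refine sup_le (comm_symm (sup_le h.B_comm (comm_symm FrT.B_cent_F)))
    (comm_symm (sup_le FrT.B_cent_F hFF))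

theorem FrT.sup_sq (h : FrT 𝒯 S M V F n) : ∀ b ∈ BBT 𝒯 M (S : Subgroup G) V F n ⊔ F, b ^ 2 = 1 := by
  intro b hb
  have h1 : BBT 𝒯 M (S : Subgroup G) V F n ≤ normalizer (F : Set G) :=
    FrT.B_cent_F.trans (centralizer_le_normalizer _)
  rw [← SetLike.mem_coe, Subgroup.coe_mul_of_left_le_normalizer_right _ _ h1, Set.mem_mul] at hb
  obtain ⟨a, ha, f, hf, rfl⟩ := hb
  have hcm : Commute a f := (mem_centralizer_iff.1 (FrT.B_cent_F ha) f hf).symm
  rw [hcm.mul_pow, h.B_sq a ha, h.hyp.sq f (h.hyp.F_le_V hf), one_mul]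

omit [Finite G] in
theorem FrT.X_norm_sup : centralizer (F : Set G) ≤
    normalizer ((BBT 𝒯 M (S : Subgroup G) V F n ⊔ F : Subgroup G) : Set G) := by
  intro x hx
  have h1 : MulAut.conj x • (BBT 𝒯 M (S : Subgroup G) V F n ⊔ F) = BBT 𝒯 M (S : Subgroup G) V F n ⊔ F := by
    rw [Subgroup.smul_sup, FrT.conj_BB hx, NOne.Flat.conj_eq_of_cent hx]
  rw [mem_normalizer_iff]
  intro b
  constructor
  · intro hb
    rw [← h1, mem_conj]
    simpa [mul_assoc] using hb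
  · intro hb
    rw [← h1, mem_conj] at hb
    simpa [mul_assoc] using hb

end sup

/-- `B = ⟨good lines at distance ≤ n⟩ F` -/
abbrev BLT (𝒯 : Set (Subgroup G)) (M S V F : Subgroup G) (n : ℕ) : Subgroup G := BBT 𝒯 M S V F n ⊔ F

section fr

variable [Finite G] {𝒯 : Set (Subgroup G)} {S : Sylow 2 G} {P V F M : Subgroup G} {n : ℕ} (h : FrT 𝒯 S M V F n)
include h

theorem bhT : BH V F (BLT 𝒯 M (S : Subgroup G) V F n) where
  toHyp := h.hyp
  le_W := sup_le FrT.B_le_W (h.hyp.F_le_E.trans NOne.Flat.Hyp.E_le_W)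
  F_le := le_sup_right
  abel := h.sup_comm
  norm := FrT.X_norm_sup

/-- `F ≤ S^g` for the chambers at distance `≤ n`. -/
theorem F_le_conjT {j : ℕ} {g : G} (hg : ChT 𝒯 M (S : Subgroup G) (NOne.Flat.WW V F) j g) :
    F ≤ MulAut.conj g • (S : Subgroup G) := by
  obtain ⟨a, haM, haW, hag⟩ := hg
  induction hag with
  | zero => exact (h.hyp.F_le_E.trans NOne.Flat.Hyp.E_le_W).trans haW
  | @step k a' g' p P hg hP hp ih =>
    refine h.pass hP hp (ih haM haW) ?_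
    have h1 : (⟨a', haM, haW, hg⟩ : ChT 𝒯 M (S : Subgroup G) (NOne.Flat.WW V F) _ g') = ⟨a', haM, haW, hg⟩ := rfl
    have h2 : g' ∈ M := h.mem_M ⟨a', haM, haW, hg⟩
    have h3 : MulAut.conj g' • zl (S : Subgroup G) P ≤ V := h.line_le_V h2 hP
    exact h.hyp.F_le_V.trans (h.hyp.comm.trans (centralizer_le h3))

theorem BL_le_conjT {j : ℕ} (hj : j ≤ n) {g : G} (hg : ChT 𝒯 M (S : Subgroup G) (NOne.Flat.WW V F) j g) :
    BLT 𝒯 M (S : Subgroup G) V F n ≤ MulAut.conj g • (S : Subgroup G) :=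
  sup_le (h.B_le_conj hj hg) (F_le_conjT h hg)

/-- **(3)** for a bad line at distance `≤ n`. -/
theorem fr_threeT {j : ℕ} (hj : j ≤ n) {g : G} (hg : ChT 𝒯 M (S : Subgroup G) (NOne.Flat.WW V F) j g)
    (hP : P ∈ 𝒯) (hT : Tp (S : Subgroup G) P)
    (hUE : ¬ MulAut.conj g • zl (S : Subgroup G) P ≤ EE V F) :
    F.relIndex (V ⊓ BLT 𝒯 M (S : Subgroup G) V F n) ≤
      (EE V F).relIndex (MulAut.conj g • zl (S : Subgroup G) P) := by
  have hgM : g ∈ M := h.mem_M hg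
  have hgV := h.MV hgM
  have hgV' : g⁻¹ ∈ normalizer (V : Set G) := inv_mem hgV
  have eE : EE V (MulAut.conj g⁻¹ • F) = MulAut.conj g⁻¹ • EE V F := (EE_conj hgV').symm
  have h1 := three (S := S) (P := P) (F := MulAut.conj g⁻¹ • F)
    (B := MulAut.conj g⁻¹ • BLT 𝒯 M (S : Subgroup G) V F n) h.hc (h.TT _ hP) hT ((bhT h).conj hgV') ?_ ?_ (h.zl_le_V hP) ?_
  · have e1 : V ⊓ MulAut.conj g⁻¹ • BLT 𝒯 M (S : Subgroup G) V F n =
        MulAut.conj g⁻¹ • (V ⊓ BLT 𝒯 M (S : Subgroup G) V F n) := by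
      rw [Subgroup.smul_inf, conj_eq_of_norm hgV']
    have e2 : zl (S : Subgroup G) P = MulAut.conj g⁻¹ • (MulAut.conj g • zl (S : Subgroup G) P) := by
      rw [conj_conj, inv_mul_cancel, map_one, one_smul]
    rw [e1, eE, relIndex_pointwise_smul] at h1
    conv_rhs at h1 => rw [e2]
    rwa [relIndex_pointwise_smul] at h1
  · intro b hb
    rw [mem_conj] at hb
    have h2 := h.sup_sq _ hb
    rw [inv_inv] at h2
    have e : b ^ 2 = g⁻¹ * (g * b * g⁻¹) ^ 2 * g := by rw [pow_two, pow_two]; group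
    rw [e, h2]
    group
  · have h2 := conj_le_iff (g := g⁻¹).2 (BL_le_conjT h hj hg)
    rwa [conj_conj, inv_mul_cancel, map_one, one_smul] at h2
  · intro h2
    apply hUE
    rw [eE] at h2
    have h3 := conj_le_iff (g := g).2 h2
    rwa [conj_conj, mul_inv_cancel, map_one, one_smul] at h3

/-- `|I : F| ≤ |V : E|` -/
theorem fr_keyT {j : ℕ} (hj : j ≤ n) {g : G} (hg : ChT 𝒯 M (S : Subgroup G) (NOne.Flat.WW V F) j g)
    (hP : P ∈ 𝒯) (hT : Tp (S : Subgroup G) P)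
    (hUE : ¬ MulAut.conj g • zl (S : Subgroup G) P ≤ EE V F) :
    F.relIndex (V ⊓ BLT 𝒯 M (S : Subgroup G) V F n) ≤ (EE V F).relIndex V :=
  (fr_threeT h hj hg hP hT hUE).trans
    (relIndex_le_of_le_right (h.line_le_V (h.mem_M hg) hP) index_ne_zero_of_finite)

/-- `V = U E` for a bad line `U`. -/
theorem fr_spanT {j : ℕ} (hj : j ≤ n) {g : G} (hg : ChT 𝒯 M (S : Subgroup G) (NOne.Flat.WW V F) j g)
    (hP : P ∈ 𝒯) (hT : Tp (S : Subgroup G) P)
    (hUE : ¬ MulAut.conj g • zl (S : Subgroup G) P ≤ EE V F)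
    (hI : ¬ V ⊓ BLT 𝒯 M (S : Subgroup G) V F n ≤ F) {v : G} (hv : v ∈ V) :
    ∃ x ∈ MulAut.conj g • zl (S : Subgroup G) P, ∃ e ∈ EE V F, v = x * e := by
  have hcos : Cos id (MulAut.conj g • zl (S : Subgroup G) P) (EE V F) V (EE V F) :=
    ⟨fun u hu => h.line_le_V (h.mem_M hg) hP hu, fun _ _ _ _ => Iff.rfl⟩
  obtain ⟨x, hx, hxv⟩ := hcos.surj (((bhT h).relIndex_V_le hI).trans (fr_threeT h hj hg hP hT hUE)) hv
  exact ⟨x, hx, x⁻¹ * v, hxv, by group⟩

end fr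


section exists_front

/-- The elements of `⟨𝒯⟩` are reached by galleries. -/
theorem exists_galT {𝒯 : Set (Subgroup G)} {y : G} (hy : y ∈ sSup 𝒯) : ∃ k, Gal 𝒯 k 1 y := by
  have hy' : y ∈ ⨆ P : 𝒯, (P : Subgroup G) := by rwa [sSup_eq_iSup'] at hy
  refine Subgroup.iSup_induction (S := fun P : 𝒯 => (P : Subgroup G))
    (C := fun y => ∃ k, Gal 𝒯 k 1 y) hy' ?_ ?_ ?_
  · rintro ⟨P, hP⟩ p hp
    have := Gal.one (F := 𝒯) hP (g := 1) hp
    rw [one_mul] at this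
    exact ⟨1, this⟩
  · exact ⟨0, Gal.zero _⟩
  · rintro x y ⟨k, hk⟩ ⟨l, hl⟩
    have h1 := hl.mul_left x
    rw [mul_one] at h1
    exact ⟨k + l, hk.trans h1⟩

variable [Finite G]

/-- **The front exists**, for any frame `V`, `F` with `W_F ≤ S`, `⟨Z^M⟩ ≰ E`, `M = ⟨𝒯⟩`. -/
theorem exists_frT {S : Sylow 2 G} {𝒯 : Set (Subgroup G)} {M V F : Subgroup G}
    (hc : IsCharacteristicTwoType G) (hno : ¬ FF (S : Subgroup G)) (hyp : NOne.Flat.Hyp V F)
    (hTT : ∀ P ∈ 𝒯, IsParS (S : Subgroup G) P) (hne : 𝒯.Nonempty) (hPM : ∀ P ∈ 𝒯, P ≤ M) (hM : M ≤ sSup 𝒯)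
    (hMV : M ≤ normalizer (V : Set G)) (hZV : zc (S : Subgroup G) ≤ V)
    (hWS : NOne.Flat.WW V F ≤ (S : Subgroup G)) (hnE : ¬ zl (S : Subgroup G) M ≤ EE V F) :
    ∃ g ∈ M, ∃ (n : ℕ) (P : Subgroup G), FrT 𝒯 S M V (MulAut.conj g⁻¹ • F) n ∧ P ∈ 𝒯 ∧
      ¬ zl (S : Subgroup G) P ≤ EE V (MulAut.conj g⁻¹ • F) := by
  obtain ⟨P₀, hP₀⟩ := hne
  -- some chamber has a bad line
  have hex : ∃ n : ℕ, ∃ g, ChT 𝒯 M (S : Subgroup G) (NOne.Flat.WW V F) n g ∧
      ∃ P, P ∈ 𝒯 ∧ ¬ MulAut.conj g • zl (S : Subgroup G) P ≤ EE V F := by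
    by_contra hcon
    push Not at hcon
    apply hnE
    refine iSup_le fun y => ?_
    obtain ⟨k, hk⟩ := exists_galT (hM y.2)
    have h1 := hcon k y ⟨1, one_mem _, by rwa [map_one, one_smul], hk⟩ P₀ hP₀
    exact (conj_le_iff.2 (MinSimple.VModule.zc_le_zl (S : Subgroup G) P₀)).trans h1
  classical
  obtain ⟨g, hg, P, hP, hPE⟩ := Nat.find_spec hex
  have hmin := fun j (hj : j < Nat.find hex) => Nat.find_min hex hj
  set n := Nat.find hex with hn
  have hgM := hg.mem hPM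
  have hgV := hMV hgM
  have hgV' : g⁻¹ ∈ normalizer (V : Set G) := inv_mem hgV
  have eW : NOne.Flat.WW V (MulAut.conj g⁻¹ • F) = MulAut.conj g⁻¹ • NOne.Flat.WW V F :=
    (NOne.Flat.WW_conj hgV').symm
  have eE : EE V (MulAut.conj g⁻¹ • F) = MulAut.conj g⁻¹ • EE V F := (NOne.Flat.EE_conj hgV').symm
  -- chambers for `F^{g⁻¹}`
  have hCh : ∀ j x, ChT 𝒯 M (S : Subgroup G) (NOne.Flat.WW V (MulAut.conj g⁻¹ • F)) j x →
      ChT 𝒯 M (S : Subgroup G) (NOne.Flat.WW V F) j (g * x) := by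
    rintro j x ⟨a, ha, haW, hax⟩
    refine ⟨g * a, mul_mem hgM ha, ?_, hax.mul_left g⟩
    rw [eW] at haW
    have h1 := conj_le_iff (g := g).2 haW
    rwa [conj_conj, mul_inv_cancel, map_one, one_smul, conj_conj] at h1
  have hCh' : ChT 𝒯 M (S : Subgroup G) (NOne.Flat.WW V (MulAut.conj g⁻¹ • F)) n 1 := by
    obtain ⟨a, ha, haW, hag⟩ := hg
    refine ⟨g⁻¹ * a, mul_mem (inv_mem hgM) ha, ?_, ?_⟩
    · rw [eW, ← conj_conj]
      exact conj_le_iff.2 haW
    · have := hag.mul_left g⁻¹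
      rwa [inv_mul_cancel] at this
  have hbad : ¬ zl (S : Subgroup G) P ≤ EE V (MulAut.conj g⁻¹ • F) := by
    intro h1
    apply hPE
    rw [eE] at h1
    have h2 := conj_le_iff (g := g).2 h1
    rwa [conj_conj, mul_inv_cancel, map_one, one_smul] at h2
  refine ⟨g, hgM, n, P, ⟨hc, hno, hyp.conj hgV', hTT, hPM, hMV, hZV, ?_, hCh'⟩, hP, hbad⟩
  intro j hj x hx Q hQ
  by_contra hcon
  refine hmin j hj ⟨g * x, hCh j x hx, Q, hQ, fun h1 => hcon ?_⟩
  rw [eE]
  have h2 := conj_le_iff (g := g⁻¹).2 h1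
  rwa [conj_conj, inv_mul_cancel_left] at h2

end exists_front

end Cfsg.Agent.Omega.NO3S.Pas

end

section


/-!
# GammaFF, passive types: `n = 1` is impossible (helper793 #20445 (P1)), abstract form

`S ≤ P₀ ∩ P₂`; `L ≤ V` is `P₀`-invariant, `D ≤ V` is `P₂`-invariant (`L = V_{P₀}`, `D = V_{P₂}`); `W = WW V F ≤ S` moves `L`
(`P₀` is active) and centralises `D` (`P₂` is passive); `B ≤ W` is abelian, `L ≤ B`, `B ≰ N`, `I = (V ∩ B) F`.

* `cov` : `V = D^p E` if `D^p ≰ E` (`p ∈ P₀`);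
* `zero` : the lines `L^y`, `D^y` of a chamber `S^y ≥ W` lie in `I` (`y = h⁻¹ p`, `h ∈ P₂`, `p ∈ P₀`);
* `key` : `W^h ≤ S` (`h ∈ P₂`) centralises `L` or `ρ^h ∈ ρ^S`;
* `gen`, `Dgen` : `P₂ = ⟨a^{P₂}⟩ S` if `a ∈ S` moves `D`; `D ≤ X` if `X ≥ ρ^S` is `P₂`-invariant.

`PasB.le_EE` : `D^p ≤ E` for all `p ∈ P₀`.

Conjugation is on the left: `X^g` is `g X g⁻¹`.
-/

set_option autoImplicit false
set_option linter.unusedSectionVars false

namespace Cfsg.Agent.Omega.NO3S.Pas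

open Subgroup Cfsg Cfsg.Agent.Omega.NOne
open Cfsg.Agent.Omega.NOne.NearFF (c c_def)
open scoped Pointwise

universe u

variable {G : Type u} [Group G] [Finite G]

/-- `I = (V ∩ B) F` -/
abbrev II (V F B : Subgroup G) : Subgroup G := (V ⊓ B) ⊔ F

/-- The situation of (P1). -/
structure PasB (S P₀ P₂ V F B ρ L D : Subgroup G) : Prop where
  hyp : Flat.Hyp V F
  SP₀ : S ≤ P₀
  SP₂ : S ≤ P₂
  VP₀ : P₀ ≤ normalizer (V : Set G)
  VP₂ : P₂ ≤ normalizer (V : Set G)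
  LP₀ : P₀ ≤ normalizer (L : Set G)
  DP₂ : P₂ ≤ normalizer (D : Set G)
  LV : L ≤ V
  DV : D ≤ V
  /-- `S ∩ C(L) = O₂(P₀)` -/
  Q₀ : ∀ p ∈ P₀, ∀ q ∈ S, q ∈ centralizer (L : Set G) → p * q * p⁻¹ ∈ S
  /-- `S ∩ C(D) = O₂(P₂)` -/
  Q₂ : ∀ p ∈ P₂, ∀ q ∈ S, q ∈ centralizer (D : Set G) → p * q * p⁻¹ ∈ S
  WS : Flat.WW V F ≤ S
  mov : ¬ Flat.WW V F ≤ centralizer (L : Set G)
  pas : Flat.WW V F ≤ centralizer (D : Set G)
  BW : B ≤ Flat.WW V F
  Bc : B ≤ centralizer (B : Set G)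
  LB : L ≤ B
  BN : ¬ B ≤ Flat.NN V F
  cov : ∀ p ∈ P₀, ¬ MulAut.conj p • D ≤ Flat.EE V F → V ≤ MulAut.conj p • D ⊔ Flat.EE V F
  zero : ∀ h ∈ P₂, ∀ p ∈ P₀, (∀ w ∈ Flat.WW V F, (h⁻¹ * p)⁻¹ * w * (h⁻¹ * p) ∈ S) →
    MulAut.conj (h⁻¹ * p) • L ≤ II V F B ∧ MulAut.conj (h⁻¹ * p) • D ≤ II V F B
  ρL : ρ ≤ L
  key : ∀ h ∈ P₂, (∀ w ∈ Flat.WW V F, h * w * h⁻¹ ∈ S) → (∃ w ∈ Flat.WW V F, h * w * h⁻¹ ∉ centralizer (L : Set G)) →
    ∃ s ∈ S, MulAut.conj h • ρ = MulAut.conj s • ρ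
  gen : ∀ N : Subgroup G, N ≤ P₂ → P₂ ≤ normalizer (N : Set G) → ∀ a ∈ N, a ∈ S → a ∉ centralizer (D : Set G) →
    P₂ ≤ N ⊔ S
  Dgen : ∀ X : Subgroup G, (∀ s ∈ S, MulAut.conj s • ρ ≤ X) → P₂ ≤ normalizer (X : Set G) → D ≤ X

namespace PasB

variable {S P₀ P₂ V F B ρ L D : Subgroup G} (h : PasB S P₀ P₂ V F B ρ L D)
include h

theorem nm {P X : Subgroup G} (hP : P ≤ normalizer (X : Set G)) {g x : G} (hg : g ∈ P) (hx : x ∈ X) : g * x * g⁻¹ ∈ X :=
  (mem_normalizer_iff.1 (hP hg) x).1 hx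

theorem nm' {P X : Subgroup G} (hP : P ≤ normalizer (X : Set G)) {g x : G} (hg : g ∈ P) (hx : x ∈ X) :
    g⁻¹ * x * g ∈ X := by
  have := h.nm hP (inv_mem hg) hx
  rwa [inv_inv] at this

theorem D_le_F : D ≤ F := by
  rw [← h.hyp.cent_VW]
  exact le_inf h.DV (le_centralizer_iff.1 h.pas)

theorem II_le_V : II V F B ≤ V := sup_le inf_le_left h.hyp.F_le_V

/-- `B` centralises `I`. -/
theorem II_cent {b x : G} (hb : b ∈ B) (hx : x ∈ II V F B) : b * x = x * b := by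
  have h1 : II V F B ≤ centralizer ({b} : Set G) := by
    refine sup_le (fun y hy => ?_) fun y hy => ?_
    · rw [mem_centralizer_singleton_iff]
      exact (mem_centralizer_iff.1 (h.Bc hy.2) b hb).symm
    · rw [mem_centralizer_singleton_iff]
      exact Flat.Hyp.F_comm hy (Flat.Hyp.W_le_X (h.BW hb))
  exact (mem_centralizer_singleton_iff.1 (h1 hx)).symm

/-- `U₀ = L ⟨D^{P₀}⟩` -/
def UU (_h : PasB S P₀ P₂ V F B ρ L D) : Subgroup G := L ⊔ ⨆ p : P₀, MulAut.conj (p : G) • D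

theorem L_le_UU : L ≤ h.UU := le_sup_left

theorem conj_le_UU {p : G} (hp : p ∈ P₀) : MulAut.conj p • D ≤ h.UU :=
  (le_iSup (fun p : P₀ => MulAut.conj (p : G) • D) ⟨p, hp⟩).trans le_sup_right

theorem D_le_UU : D ≤ h.UU := by
  have := h.conj_le_UU (one_mem P₀)
  rwa [map_one, one_smul] at this

theorem UU_le {X : Subgroup G} (h1 : L ≤ X) (h2 : ∀ p ∈ P₀, MulAut.conj p • D ≤ X) : h.UU ≤ X :=
  sup_le h1 (iSup_le fun p => h2 p p.2)

theorem conj_V {g : G} {P : Subgroup G} (hP : P ≤ normalizer (V : Set G)) (hg : g ∈ P) : MulAut.conj g • V = V :=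
  Flat.conj_eq_of_norm (hP hg)

theorem UU_le_V : h.UU ≤ V := by
  refine h.UU_le h.LV fun p hp => ?_
  have h1 := NoFF.Basic.conj_le_iff (g := p) |>.2 h.DV
  rwa [h.conj_V h.VP₀ hp] at h1

/-- `P₀` normalises `U₀`. -/
theorem conj_UU_le {g : G} (hg : g ∈ P₀) : MulAut.conj g • h.UU ≤ h.UU := by
  have h1 : h.UU ≤ MulAut.conj g⁻¹ • h.UU := by
    refine h.UU_le ?_ fun p hp => ?_
    · have h2 := NoFF.Basic.conj_le_iff (g := g⁻¹) |>.2 h.L_le_UU
      rwa [Flat.conj_eq_of_norm (h.LP₀ (inv_mem hg))] at h2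
    · have h2 := NoFF.Basic.conj_le_iff (g := g⁻¹) |>.2 (h.conj_le_UU (mul_mem hg hp))
      rwa [NoFF.Basic.conj_conj, inv_mul_cancel_left] at h2
  have h3 := NoFF.Basic.conj_le_iff (g := g) |>.2 h1
  rwa [NoFF.Basic.conj_conj, mul_inv_cancel, map_one, one_smul] at h3

theorem UU_norm {g u : G} (hg : g ∈ P₀) (hu : u ∈ h.UU) : g * u * g⁻¹ ∈ h.UU :=
  h.conj_UU_le hg (Cfsg.Agent.Omega.NOne.Frame.conj_mem (g := g) hu)

theorem L_le_EE : L ≤ Flat.EE V F :=
  le_inf h.LV (h.LB.trans (h.BW.trans Flat.Hyp.W_le_R))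

theorem DD_le_V {p : G} (hp : p ∈ P₀) : MulAut.conj p • D ≤ V := (h.conj_le_UU hp).trans h.UU_le_V

/-- `V = U₀ F`, if there is a bad `D^p`. -/
theorem V_le {p w : G} (hp : p ∈ P₀) (hw : w ∈ MulAut.conj p • D) (hwE : w ∉ Flat.EE V F) : V ≤ h.UU ⊔ F := by
  have h1 : Flat.EE V F ≤ h.UU ⊔ F := by
    intro e he
    obtain ⟨s, hs, hse⟩ := h.hyp.surj (h.DD_le_V hp hw) hwE he
    have hwU : w ∈ h.UU := h.conj_le_UU hp hw
    have h2 : c w s ∈ h.UU := by
      have h3 := mul_mem hwU (h.UU_norm (h.SP₀ (h.WS hs)) (inv_mem hwU))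
      have e1 : w * (s * w⁻¹ * s⁻¹) = c w s := by rw [c_def]; group
      rwa [e1] at h3
    have e2 : e = (c w s * e⁻¹)⁻¹ * c w s := by group
    rw [e2]
    exact mul_mem (inv_mem (le_sup_right (a := h.UU) hse)) (le_sup_left (b := F) h2)
  refine (h.cov p hp fun h2 => hwE (h2 hw)).trans (sup_le ?_ h1)
  exact (h.conj_le_UU hp).trans le_sup_left

/-- (c) -/
theorem UU_le_conj {g : G} (hg : g ∈ P₂)
    (hW : ∀ w ∈ Flat.WW V F, g * w * g⁻¹ ∈ S ∧ g * w * g⁻¹ ∈ centralizer (L : Set G)) :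
    h.UU ≤ MulAut.conj g • II V F B := by
  have key : ∀ p ∈ P₀, MulAut.conj (g⁻¹ * p) • L ≤ II V F B ∧ MulAut.conj (g⁻¹ * p) • D ≤ II V F B := by
    intro p hp
    refine h.zero g hg p hp fun w hw => ?_
    have h1 := h.Q₀ p⁻¹ (inv_mem hp) _ (hW w hw).1 (hW w hw).2
    have e : p⁻¹ * (g * w * g⁻¹) * p⁻¹⁻¹ = (g⁻¹ * p)⁻¹ * w * (g⁻¹ * p) := by group
    rwa [e] at h1
  have tr : ∀ X : Subgroup G, MulAut.conj g⁻¹ • X ≤ II V F B → X ≤ MulAut.conj g • II V F B := by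
    intro X hX
    have h1 := NoFF.Basic.conj_le_iff (g := g) |>.2 hX
    rwa [NoFF.Basic.conj_conj, mul_inv_cancel, map_one, one_smul] at h1
  refine h.UU_le (tr _ ?_) fun p hp => tr _ ?_
  · have h1 := (key 1 (one_mem _)).1
    rwa [mul_one] at h1
  · have h1 := (key p hp).2
    rwa [← NoFF.Basic.conj_conj] at h1

theorem B_cent_L {b : G} (hb : b ∈ B) : b ∈ centralizer (L : Set G) := by
  rw [mem_centralizer_iff]
  exact fun l hl => mem_centralizer_iff.1 (h.Bc hb) l (h.LB hl)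

theorem a_mem {p b : G} (hp : p ∈ P₀) (hb : b ∈ B) : p⁻¹ * b * p ∈ S := by
  have h1 := h.Q₀ p⁻¹ (inv_mem hp) b (h.WS (h.BW hb)) (h.B_cent_L hb)
  rwa [inv_inv] at h1

/-- (d) -/
theorem cent_D (hV : V ≤ h.UU ⊔ F) {p b g : G} (hp : p ∈ P₀) (hb : b ∈ B) (hg : g ∈ P₂)
    (hW : ∀ w ∈ Flat.WW V F, g * (p⁻¹ * b * p) * g⁻¹ * w * (g * (p⁻¹ * b * p) * g⁻¹)⁻¹ ∈ S ∧
      g * (p⁻¹ * b * p) * g⁻¹ * w * (g * (p⁻¹ * b * p) * g⁻¹)⁻¹ ∈ centralizer (L : Set G)) :
    p⁻¹ * b * p ∈ centralizer (D : Set G) := by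
  set a : G := p⁻¹ * b * p with ha
  have haS : a ∈ S := h.a_mem hp hb
  have hag : g * a * g⁻¹ ∈ P₂ := mul_mem (mul_mem hg (h.SP₂ haS)) (inv_mem hg)
  have h1 := h.UU_le_conj hag hW
  set U' : Subgroup G := MulAut.conj g⁻¹ • h.UU with hU'
  set I' : Subgroup G := MulAut.conj g⁻¹ • II V F B with hI'
  have hUI : U' ≤ MulAut.conj a • I' := by
    have h2 := NoFF.Basic.conj_le_iff (g := g⁻¹) |>.2 h1
    rw [hI', NoFF.Basic.conj_conj]
    rw [NoFF.Basic.conj_conj] at h2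
    have e : g⁻¹ * (g * a * g⁻¹) = a * g⁻¹ := by group
    rwa [e] at h2
  -- `C_{U'}(a) ≤ I'`
  have hC : U' ⊓ centralizer ({a} : Set G) ≤ U' ⊓ I' := by
    rintro x ⟨hx1, hx2⟩
    refine ⟨hx1, ?_⟩
    have h3 := NoFF.Basic.mem_conj.1 (hUI hx1)
    have h4 := mem_centralizer_singleton_iff.1 hx2
    have e : a⁻¹ * x * a = x := by rw [mul_assoc, h4, inv_mul_cancel_left]
    rwa [e] at h3
  have hV' : V ≤ U' ⊔ I' := by
    have h3 := NoFF.Basic.conj_le_iff (g := g⁻¹) |>.2 (hV.trans (sup_le_sup_left (le_sup_right : F ≤ II V F B) _))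
    rwa [h.conj_V h.VP₂ (inv_mem hg), Choice.conj_sup] at h3
  have hU'V : U' ≤ V := by
    have h3 := NoFF.Basic.conj_le_iff (g := g⁻¹) |>.2 h.UU_le_V
    rwa [h.conj_V h.VP₂ (inv_mem hg)] at h3
  have hI'V : I' ≤ V := by
    have h3 := NoFF.Basic.conj_le_iff (g := g⁻¹) |>.2 h.II_le_V
    rwa [h.conj_V h.VP₂ (inv_mem hg)] at h3
  have hVeq : U' ⊔ I' = V := le_antisymm (sup_le hU'V hI'V) hV'
  -- the indices
  have hab : (V ⊓ centralizer ({a} : Set G) : Subgroup G) = MulAut.conj p⁻¹ • (V ⊓ centralizer ({b} : Set G)) := by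
    ext x
    rw [NoFF.Basic.mem_conj, mem_inf, mem_inf, mem_centralizer_singleton_iff, mem_centralizer_singleton_iff,
      inv_inv]
    constructor
    · rintro ⟨hx1, hx2⟩
      refine ⟨h.nm h.VP₀ hp hx1, ?_⟩
      calc p * x * p⁻¹ * b = p * (x * a) * p⁻¹ := by rw [ha]; group
        _ = p * (a * x) * p⁻¹ := by rw [hx2]
        _ = b * (p * x * p⁻¹) := by rw [ha]; group
    · rintro ⟨hx1, hx2⟩
      refine ⟨?_, ?_⟩
      · have h3 := h.nm' h.VP₀ hp hx1
        have e : p⁻¹ * (p * x * p⁻¹) * p = x := by group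
        rwa [e] at h3
      · calc x * a = p⁻¹ * (p * x * p⁻¹ * b) * p := by rw [ha]; group
          _ = p⁻¹ * (b * (p * x * p⁻¹)) * p := by rw [hx2]
          _ = a * x := by rw [ha]; group
  have c1 : Nat.card (V ⊓ centralizer ({a} : Set G) : Subgroup G) =
      Nat.card (V ⊓ centralizer ({b} : Set G) : Subgroup G) := by rw [hab, Choice.card_conj]
  have c2 : Nat.card (II V F B) ≤ Nat.card (V ⊓ centralizer ({b} : Set G) : Subgroup G) := by
    refine Subgroup.card_le_of_le (le_inf h.II_le_V fun x hx => ?_)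
    exact mem_centralizer_singleton_iff.2 (h.II_cent hb hx).symm
  have c3 : Nat.card I' = Nat.card (II V F B) := by rw [hI', Choice.card_conj]
  have r1 : (centralizer ({a} : Set G)).relIndex V ≤ I'.relIndex V := by
    have e1 := Flat.card_mul_relIndex' (inf_le_left : V ⊓ centralizer ({a} : Set G) ≤ V)
    have e2 := Flat.card_mul_relIndex' hI'V
    rw [inf_relIndex_left] at e1
    have e3 : 0 < Nat.card (V ⊓ centralizer ({a} : Set G) : Subgroup G) := Nat.card_pos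
    refine Nat.le_of_mul_le_mul_left ?_ e3
    rw [e1, ← e2]
    exact Nat.mul_le_mul_right _ (by rw [c3, c1]; exact c2)
  have r2 : (centralizer ({a} : Set G)).relIndex U' ≤ (centralizer ({a} : Set G)).relIndex V :=
    relIndex_le_of_le_right hU'V index_ne_zero_of_finite
  have r3 : I'.relIndex V = I'.relIndex U' := by
    have hn : U' ≤ normalizer (I' : Set G) := by
      refine le_trans ?_ (centralizer_le_normalizer _)
      intro x hx
      rw [mem_centralizer_iff]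
      exact fun y hy => h.hyp.V_comm (hI'V hy) (hU'V hx)
    rw [← hVeq]
    have e1 := Flat.Off.card_sup_mul_inf hn
    have e2 := Flat.card_mul_relIndex' (le_sup_right : I' ≤ U' ⊔ I')
    have e3 := Flat.card_mul_relIndex' (inf_le_left : U' ⊓ I' ≤ U')
    rw [inf_relIndex_left] at e3
    have p1 : 0 < Nat.card (U' ⊓ I' : Subgroup G) := Nat.card_pos
    have p2 : 0 < Nat.card I' := Nat.card_pos
    refine Nat.eq_of_mul_eq_mul_left (Nat.mul_pos p1 p2) ?_
    calc Nat.card (U' ⊓ I' : Subgroup G) * Nat.card I' * I'.relIndex (U' ⊔ I')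
        = Nat.card (U' ⊓ I' : Subgroup G) * (Nat.card I' * I'.relIndex (U' ⊔ I')) := by ring
      _ = Nat.card (U' ⊓ I' : Subgroup G) * Nat.card (U' ⊔ I' : Subgroup G) := by rw [e2]
      _ = Nat.card (U' ⊔ I' : Subgroup G) * Nat.card (U' ⊓ I' : Subgroup G) := by ring
      _ = Nat.card U' * Nat.card I' := e1
      _ = Nat.card (U' ⊓ I' : Subgroup G) * I'.relIndex U' * Nat.card I' := by rw [e3]
      _ = Nat.card (U' ⊓ I' : Subgroup G) * Nat.card I' * I'.relIndex U' := by ring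
  have r4 : (centralizer ({a} : Set G)).relIndex U' ≤ I'.relIndex U' := by
    rw [← r3]; exact r2.trans r1
  have r5 : Nat.card (U' ⊓ I' : Subgroup G) ≤ Nat.card (U' ⊓ centralizer ({a} : Set G) : Subgroup G) := by
    have e1 := Flat.card_mul_relIndex' (inf_le_left : U' ⊓ centralizer ({a} : Set G) ≤ U')
    have e2 := Flat.card_mul_relIndex' (inf_le_left : U' ⊓ I' ≤ U')
    rw [inf_relIndex_left] at e1 e2
    have e3 : 0 < I'.relIndex U' := Nat.pos_of_ne_zero index_ne_zero_of_finite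
    refine Nat.le_of_mul_le_mul_right ?_ e3
    rw [e2, ← e1]
    exact Nat.mul_le_mul_left _ r4
  have hE := Subgroup.eq_of_le_of_card_ge hC r5
  have hD1 : MulAut.conj g⁻¹ • D = D := Flat.conj_eq_of_norm (h.DP₂ (inv_mem hg))
  have hD2 : D ≤ U' ⊓ I' := by
    refine le_inf ?_ ?_
    · have h3 := NoFF.Basic.conj_le_iff (g := g⁻¹) |>.2 h.D_le_UU
      rwa [hD1] at h3
    · have h3 := NoFF.Basic.conj_le_iff (g := g⁻¹) |>.2 (h.D_le_F.trans (le_sup_right : F ≤ II V F B))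
      rwa [hD1] at h3
  rw [← hE] at hD2
  rw [mem_centralizer_iff]
  exact fun d hd => mem_centralizer_singleton_iff.1 (hD2 hd).2

theorem mem_norm_of_le {X : Subgroup G} {x : G} (hx : MulAut.conj x • X ≤ X) : x ∈ normalizer (X : Set G) := by
  have h1 : MulAut.conj x • X = X := Subgroup.eq_of_le_of_card_ge hx (by rw [Choice.card_conj])
  rw [mem_normalizer_iff]
  intro y
  constructor
  · intro hy
    have := NOne.Frame.conj_mem (g := x) hy
    rwa [h1] at this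
  · intro hy
    rw [← h1, NoFF.Basic.mem_conj] at hy
    have e : x⁻¹ * (x * y * x⁻¹) * x = y := by group
    rwa [e] at hy

/-- **(P1)** -/
theorem le_EE {p : G} (hp : p ∈ P₀) : MulAut.conj p • D ≤ Flat.EE V F := by
  by_contra hne
  obtain ⟨w, hw, hwE⟩ := Set.not_subset.1 hne
  have hV := h.V_le hp hw hwE
  have hwV : w ∈ V := h.DD_le_V hp hw
  -- `b ∈ B` moves `w`
  obtain ⟨b, hb, hbN⟩ := Set.not_subset.1 h.BN
  have hcw : c w b ∉ F := fun h1 => hbN ((h.hyp.c_mem_F_iff hwV hwE (h.BW hb)).1 h1)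
  set a : G := p⁻¹ * b * p with ha
  have haS : a ∈ S := h.a_mem hp hb
  have haD : a ∉ centralizer (D : Set G) := by
    intro h1
    apply hcw
    have h2 : p⁻¹ * w * p ∈ D := NoFF.Basic.mem_conj.1 hw
    have h3 := mem_centralizer_iff.1 h1 _ h2
    have h4 : w * b = b * w := by
      calc w * b = p * (p⁻¹ * w * p * a) * p⁻¹ := by rw [ha]; group
        _ = p * (a * (p⁻¹ * w * p)) * p⁻¹ := by rw [h3]
        _ = b * w := by rw [ha]; group
    rw [c_def, h4, mul_inv_cancel_right, mul_inv_cancel]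
    exact one_mem _
  -- (e)
  have hkey : ∀ g ∈ P₂, ∃ s ∈ S, MulAut.conj (g * a * g⁻¹) • ρ = MulAut.conj s • ρ := by
    intro g hg
    have hag : g * a * g⁻¹ ∈ P₂ := mul_mem (mul_mem hg (h.SP₂ haS)) (inv_mem hg)
    have hW1 : ∀ w ∈ Flat.WW V F, g * a * g⁻¹ * w * (g * a * g⁻¹)⁻¹ ∈ S := fun w hw =>
      h.Q₂ _ hag w (h.WS hw) (h.pas hw)
    refine h.key _ hag hW1 ?_
    by_contra hno
    push Not at hno
    exact haD (h.cent_D hV hp hb hg fun w hw => ⟨hW1 w hw, hno w hw⟩)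
  set X : Subgroup G := ⨆ s : S, MulAut.conj (s : G) • ρ with hX
  have hsX : ∀ s ∈ S, MulAut.conj s • ρ ≤ X := fun s hs =>
    le_iSup (fun s : S => MulAut.conj (s : G) • ρ) ⟨s, hs⟩
  have hSX : S ≤ normalizer (X : Set G) := by
    intro t ht
    apply h.mem_norm_of_le
    have h1 : X ≤ MulAut.conj t⁻¹ • X := by
      refine iSup_le fun s => ?_
      have h2 := NoFF.Basic.conj_le_iff (g := t⁻¹) |>.2 (hsX _ (mul_mem ht s.2))
      rwa [NoFF.Basic.conj_conj, inv_mul_cancel_left] at h2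
    have h2 := NoFF.Basic.conj_le_iff (g := t) |>.2 h1
    rwa [NoFF.Basic.conj_conj, mul_inv_cancel, map_one, one_smul] at h2
  set N : Subgroup G := closure {x | ∃ g ∈ P₂, x = g * a * g⁻¹} with hN
  have hNP : N ≤ P₂ := by
    rw [hN, closure_le]
    rintro _ ⟨g, hg, rfl⟩
    exact mul_mem (mul_mem hg (h.SP₂ haS)) (inv_mem hg)
  have hNX : N ≤ normalizer (X : Set G) := by
    rw [hN, closure_le]
    rintro _ ⟨g, hg, rfl⟩
    apply h.mem_norm_of_le
    have h1 : X ≤ MulAut.conj (g * a * g⁻¹)⁻¹ • X := by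
      refine iSup_le fun s => ?_
      obtain ⟨t, ht, hst⟩ := hkey ((s : G)⁻¹ * g) (mul_mem (inv_mem (h.SP₂ s.2)) hg)
      have h2 := hsX _ (mul_mem s.2 ht)
      rw [← NoFF.Basic.conj_conj, ← hst, NoFF.Basic.conj_conj] at h2
      have h3 := NoFF.Basic.conj_le_iff (g := (g * a * g⁻¹)⁻¹) |>.2 h2
      rw [NoFF.Basic.conj_conj] at h3
      have e : (g * a * g⁻¹)⁻¹ * ((s : G) * ((s : G)⁻¹ * g * a * ((s : G)⁻¹ * g)⁻¹)) = s := by group
      rwa [e] at h3
    have h2 := NoFF.Basic.conj_le_iff (g := g * a * g⁻¹) |>.2 h1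
    rwa [NoFF.Basic.conj_conj, mul_inv_cancel, map_one, one_smul] at h2
  have hPN : P₂ ≤ normalizer (N : Set G) := by
    intro g hg
    apply h.mem_norm_of_le
    have h1 : N ≤ MulAut.conj g⁻¹ • N := by
      rw [hN, closure_le]
      rintro _ ⟨k, hk, rfl⟩
      rw [SetLike.mem_coe, NoFF.Basic.mem_conj]
      refine subset_closure ⟨g * k, mul_mem hg hk, by group⟩
    have h2 := NoFF.Basic.conj_le_iff (g := g) |>.2 h1
    rwa [NoFF.Basic.conj_conj, mul_inv_cancel, map_one, one_smul] at h2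
  have haN : a ∈ N := subset_closure ⟨1, one_mem _, by group⟩
  have hPX : P₂ ≤ normalizer (X : Set G) := (h.gen N hNP hPN a haN haS haD).trans (sup_le hNX hSX)
  have hDX := h.Dgen X hsX hPX
  have hXL : X ≤ L := by
    refine iSup_le fun s => ?_
    have h1 := NoFF.Basic.conj_le_iff (g := (s : G)) |>.2 h.ρL
    rwa [Flat.conj_eq_of_norm (h.LP₀ (h.SP₀ s.2))] at h1
  apply hne
  have h1 := NoFF.Basic.conj_le_iff (g := p) |>.2 (hDX.trans hXL)
  rw [Flat.conj_eq_of_norm (h.LP₀ hp)] at h1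
  exact h1.trans h.L_le_EE

end PasB

end Cfsg.Agent.Omega.NO3S.Pas

end

end

-- merged: Cfsg.Agent.Mrg.Omega.NO3S.GFF.S1.Four
section

section


/-!
# GammaFF (S1), helper283 #20415 (4): `V_Y` is not FF for `Y = ⟨P, R⟩`

`P ∈ P**` with `V_P` of the types of the FF theorem, `R ∈ P*(S)`, `|Z| ≥ 4` or `⟨R, C_G(Z)⟩` local, `V_R ≰ V_P`: nothing in
`Y = ⟨P, R⟩` offends on `⟨Z^Y⟩`.

* `gallery` : `M` generated by a set `TT` of members of `P*(S)`: a 2-subgroup of `M` which moves `⟨Z^M⟩` has an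
  `M`-conjugate in `S` which moves some `V_P`, `P ∈ TT`;
* `PrinT`, `exists_minOff` : the same principle for a general module `W`; no over-offender, and a minimal offender in
  `S` moves some `V_P`, `P ∈ TT`;
* `not_off` : `⟨Z^Y⟩` has no offender (minimal offenders in `O₂(P)`: THEOREM B; a minimal offender moves `V_P`:
  `⟨Z^Y⟩ = V_P`, THEOREM D);
* `Rad S` : the leaf (S1): the W-stage, and `C_Z(R) ≠ 1` whenever some `W_F ≤ S` is not in `O₂(R)`; `Rad.pas` : every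
  `P ∈ P**` is passive; `Rad.two` : `|Z| > 2`;
* `Rad.not_le_EE` : `⟨Z^Y⟩ ≰ E_F`.
-/

set_option autoImplicit false
set_option linter.unusedSectionVars false

namespace Cfsg.Agent.Omega.NO3S.GFF.S1

open Subgroup Cfsg Cfsg.Agent.ZN Cfsg.Agent.ZN.ChoiceBase Cfsg.Agent.Omega.MinPar Cfsg.Agent.Omega.Frame
open Cfsg.Agent.Omega.FrameNOFF (CZ)
open Cfsg.Agent.Omega.FFThm (OffM ElemM NoOverM StmtM ConclM)
open Cfsg.Agent.Omega.FrameFF (cv)
open Cfsg.Agent.Omega.NOThreeL.VF (fM fM_le fM_cj fM_of_le le_fM_iff fM_le_iff exists_two card_eq_rel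
  fM_congr elemM_cj le_o2_of_cj)
open Cfsg.Agent.Omega.NO3S.Level (MinOff noOver_line off_of_fM fam bfam_fam toB eq_of_min)

universe u

variable {G : Type u} [Group G] [Finite G]

/-- A 2-subgroup `A ≤ M` moving `⟨Z^M⟩`, `M = ⟨TT⟩`, moves some line `V_P^m`, `P ∈ TT`, `A ≤ S^m`. -/
theorem gallery (hc : IsCharacteristicTwoType G) (S : Sylow 2 G) {M : Subgroup G} {TT : Set (Subgroup G)}
    (hM : IsLoc (S : Subgroup G) M) (hTT : ∀ P ∈ TT, IsParS (S : Subgroup G) P) (hTM : ∀ P ∈ TT, P ≤ M)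
    (hgen : M ≤ sSup TT) {A : Subgroup G} (hA : A ≤ M) (hA2 : IsPGroup 2 A)
    (hne : ¬ A ≤ centralizer (zl (S : Subgroup G) M : Set G)) :
    ∃ m ∈ M, cj m A ≤ (S : Subgroup G) ∧ ∃ P ∈ TT, ¬ cj m A ≤ centralizer (zl (S : Subgroup G) P : Set G) := by
  by_contra hcon
  push Not at hcon
  apply hne
  let Y : Subgroup G :=
    { carrier := {g | ∀ m, cj m A ≤ (S : Subgroup G) ∧ m ∈ M ↔ cj (g * m) A ≤ (S : Subgroup G) ∧ g * m ∈ M}
      mul_mem' := by
        intro a b ha hb m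
        have h1 := hb m
        have h2 := ha (b * m)
        rw [← mul_assoc] at h2
        exact h1.trans h2
      one_mem' := by intro m; rw [one_mul]
      inv_mem' := by
        intro a ha m
        have h1 := ha (a⁻¹ * m)
        have e : a * (a⁻¹ * m) = m := by group
        rw [e] at h1
        exact h1.symm }
  have key : ∀ P ∈ TT, ∀ p ∈ P, ∀ m, cj m A ≤ (S : Subgroup G) → m ∈ M →
      cj (p * m) A ≤ (S : Subgroup G) ∧ p * m ∈ M := by
    intro P hP p hp m hm hmM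
    refine ⟨?_, mul_mem (hTM P hP hp) hmM⟩
    have h1 := hcon m hmM hm P hP
    have h2 : cj m A ≤ o2 P := by
      rw [← (hTT P hP).inf_centralizer S hc]
      exact le_inf hm h1
    rw [← cj_cj]
    exact Level.conj_le_of_le_o2 (hTT P hP).toIsPar h2 hp
  have hY : ∀ P ∈ TT, P ≤ Y := by
    intro P hP p hp m
    constructor
    · rintro ⟨h1, h2⟩
      exact key P hP p hp m h1 h2
    · rintro ⟨h1, h2⟩
      have h3 := key P hP p⁻¹ (inv_mem hp) (p * m) h1 h2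
      have e : p⁻¹ * (p * m) = m := by group
      rwa [e] at h3
  have hMY : M ≤ Y := hgen.trans (sSup_le hY)
  -- `A` has a conjugate in `S`
  obtain ⟨m₀, hm₀, hm₀S⟩ := FFThm.exists_conj_le S hM.le hA2 hA
  have h5 : ∀ m ∈ M, cj m⁻¹ A ≤ (S : Subgroup G) := by
    intro m hm
    have h1 := ((hMY (mul_mem (inv_mem hm) (inv_mem hm₀))) m₀).1 ⟨hm₀S, hm₀⟩
    have e : m⁻¹ * m₀⁻¹ * m₀ = m⁻¹ := by group
    rw [e] at h1
    exact h1.1
  have h6 := le_o2_of_cj S hM.le h5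
  have h7 := hM.zl_le S hc
  exact (h6.trans (le_centralizer_zc _)).trans (centralizer_le h7)

variable {S : Sylow 2 G} {M W P R : Subgroup G} {TT : Set (Subgroup G)}

/-- The principle for `M`, `W` and the types `TT`. -/
def PrinT (S : Sylow 2 G) (TT : Set (Subgroup G)) (M W : Subgroup G) : Prop :=
  ∀ B ≤ M, IsPGroup 2 B → ¬ B ≤ centralizer (W : Set G) → ∃ m ∈ M, cj m B ≤ (S : Subgroup G) ∧
    ∃ P ∈ TT, ¬ cj m B ≤ centralizer (zl (S : Subgroup G) P : Set G)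

/-- No over-offender on `W`, and a minimal offender in `S` moves some `V_P`, `P ∈ TT`. -/
theorem exists_minOff (hFF : StmtM.{u}) (hc : IsCharacteristicTwoType G) (hMW : M ≤ normalizer (W : Set G))
    (hTT : ∀ P ∈ TT, IsParS (S : Subgroup G) P)
    (hVW : ∀ P ∈ TT, zl (S : Subgroup G) P ≤ W) (hprin : PrinT S TT M W)
    (hoff : ∃ A ≤ M, OffM W A) :
    NoOverM W M ∧ ∃ A ≤ (S : Subgroup G), MinOff W M A ∧
      ∃ P ∈ TT, ¬ A ≤ centralizer (zl (S : Subgroup G) P : Set G) := by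
  classical
  let 𝒞 : Set (Subgroup G) := {B | B ≤ M ∧ IsPGroup 2 B ∧ ElemM W B ∧ ¬ B ≤ centralizer (W : Set G)}
  have hrep : ∀ A ≤ M, ElemM W A → ¬ A ≤ centralizer (W : Set G) → ∃ B ∈ 𝒞, fM W B = fM W A := by
    intro A hA hE hne
    obtain ⟨B, hB, hB2, h⟩ := exists_two (hA.trans hMW) hE
    refine ⟨B, ⟨hB.trans hA, hB2, NOThreeL.VF.elemM_mono hE hB, fun h1 => hne fun a ha => ?_⟩, fM_congr hB h⟩
    obtain ⟨b, hb, hab⟩ := h a ha
    have h2 := mul_mem (h1 hb) hab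
    have e : b * (b⁻¹ * a) = a := by group
    rwa [e] at h2
  obtain ⟨A₀, hA₀M, hA₀⟩ := hoff
  obtain ⟨B₀, hB₀, hfB₀⟩ := hrep A₀ hA₀M hA₀.toElemM hA₀.ne
  have hVf₀ : Nat.card W ≤ fM W B₀ := by
    rw [hfB₀]
    exact le_fM_iff.2 hA₀.le
  -- no over-offender
  have hNO : NoOverM W M := by
    obtain ⟨B₁, hB₁, hmax⟩ := Set.exists_max_image 𝒞 (fM W) (Set.toFinite _) ⟨B₀, hB₀⟩
    obtain ⟨B, ⟨hB, hBf⟩, hmin⟩ := Set.exists_min_image {B | B ∈ 𝒞 ∧ fM W B = fM W B₁}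
      (fun B => (centralizer (W : Set G)).relIndex B) (Set.toFinite _) ⟨B₁, hB₁, rfl⟩
    obtain ⟨m, hm, hmS, P, hP, hmP⟩ := hprin B hB.1 hB.2.1 hB.2.2.2
    have hcj := fM_cj (A := B) (hMW hm)
    have hWV := hVW P hP
    have hCVW : centralizer (W : Set G) ≤ centralizer (zl (S : Subgroup G) P : Set G) := centralizer_le hWV
    set A : Subgroup G := cj m B with hAd
    have hAM : A ≤ M := by
      have h1 := cj_mono m hB.1
      rwa [cj_eq_of_mem_normalizer (le_normalizer hm)] at h1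
    have hAE : ElemM W A := elemM_cj (hMW hm) hB.2.2.1
    have hAW : ElemM (zl (S : Subgroup G) P) A :=
      ⟨fun a ha => hCVW (hAE.sq a ha), fun a ha b hb => hCVW (hAE.comm a ha b hb)⟩
    have hfA : fM W A = fM W B₁ := hcj.1.trans hBf
    have hle := fM_le hWV (noOver_line hFF hc (hTT P hP) (hmS.trans (hTT P hP).le) hAW hmP)
    set A₁ : Subgroup G := A ⊓ centralizer (zl (S : Subgroup G) P : Set G) with hA₁
    have hA₁V : A₁ ≤ centralizer (W : Set G) := by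
      by_contra hcon
      have hmem : A₁ ∈ 𝒞 := ⟨inf_le_left.trans hAM, (S.isPGroup'.to_le hmS).to_le inf_le_left,
        NOThreeL.VF.elemM_mono hAE inf_le_left, hcon⟩
      have h1 := hmax A₁ hmem
      have h2 : fM W A₁ = fM W B₁ := le_antisymm h1 (hfA ▸ hle)
      have h3 := hmin A₁ ⟨hmem, h2⟩
      rw [← hcj.2] at h3
      have e4 : A₁ ⊓ centralizer (W : Set G) = A ⊓ centralizer (W : Set G) := by
        rw [hA₁, inf_assoc, inf_eq_right.2 hCVW]
      have h4 : Nat.card A ≤ Nat.card A₁ := by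
        rw [card_eq_rel W A, card_eq_rel W A₁, e4]
        exact Nat.mul_le_mul_right _ h3
      have h5 : A₁ = A := Subgroup.eq_of_le_of_card_ge inf_le_left h4
      exact hmP (inf_eq_left.1 h5)
    have hfB₁ : fM W B₁ ≤ Nat.card W := by
      rw [← hfA, ← fM_of_le hA₁V]
      exact hle
    intro D hD hE
    rw [← fM_le_iff]
    by_cases hne : D ≤ centralizer (W : Set G)
    · exact (fM_of_le hne).le
    · obtain ⟨B', hB', h1⟩ := hrep D hD hE hne
      rw [← h1]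
      exact (hmax B' hB').trans hfB₁
  refine ⟨hNO, ?_⟩
  have hne : {B | B ≤ M ∧ IsPGroup 2 B ∧ OffM W B}.Nonempty :=
    ⟨B₀, hB₀.1, hB₀.2.1, off_of_fM hB₀.2.2.1 hB₀.2.2.2 hVf₀⟩
  obtain ⟨B, ⟨hB1, hB2, hB3⟩, hmin⟩ := Set.exists_min_image _
    (fun B => (centralizer (W : Set G)).relIndex B) (Set.toFinite _) hne
  have mB : MinOff W M B := ⟨hB1, hB2, hB3, fun D hD hD2 hDo => hmin D ⟨hD, hD2, hDo⟩⟩
  obtain ⟨m, hm, hmS, P, hP, hmP⟩ := hprin B hB1 hB2 hB3.ne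
  exact ⟨cj m B, hmS, mB.cj hm hMW, P, hP, hmP⟩

/-- **#20415 (4)**: `⟨Z^Y⟩`, `Y = ⟨P, R⟩`, is not FF. -/
theorem not_off (h : HypN S P) (hty : ThmB.Main.Ty (S : Subgroup G) P) (hR : IsParS (S : Subgroup G) R)
    (hloc : ¬ NonLoc R (CZ (S : Subgroup G)) ∨ ∃ z ∈ zc (S : Subgroup G), ∃ z' ∈ zc (S : Subgroup G), z ≠ 1 ∧ z' ≠ 1 ∧
      z ≠ z') (hne : ¬ zl (S : Subgroup G) R ≤ zl (S : Subgroup G) P) :
    ¬ ∃ A ≤ P ⊔ R, OffM (zl (S : Subgroup G) (P ⊔ R)) A := by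
  intro hoff
  have hc := h.ctx.char2
  have hL := ThmB.Main.isLoc_sup hc h.noFF h.star hR
  set W : Subgroup G := zl (S : Subgroup G) (P ⊔ R) with hW
  have hMW : P ⊔ R ≤ normalizer (W : Set G) := ZN.le_normalizer_zl _ _
  have hVP : zl (S : Subgroup G) P ≤ W := ZN.zl_le ZN.zc_le_zl (le_sup_left.trans hMW)
  have hVR : zl (S : Subgroup G) R ≤ W := ZN.zl_le ZN.zc_le_zl (le_sup_right.trans hMW)
  have hWE : IsElementaryAbelian 2 W := ThmB.Inst.zl_sup_el hc hL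
  have hWc : W ≤ centralizer (W : Set G) := fun x hx => mem_centralizer_iff.2 fun y hy =>
    ThmB.elem_comm hWE hy hx
  have hTT : ∀ Q ∈ ({P, R} : Set (Subgroup G)), IsParS (S : Subgroup G) Q := by
    rintro Q (rfl | rfl)
    · exact h.star
    · exact hR
  have hTW : ∀ Q ∈ ({P, R} : Set (Subgroup G)), zl (S : Subgroup G) Q ≤ W := by
    rintro Q (rfl | rfl)
    · exact hVP
    · exact hVR
  have hprin : PrinT S {P, R} (P ⊔ R) W := by
    intro B hB hB2 hBW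
    refine gallery hc S hL hTT ?_ ?_ hB hB2 hBW
    · rintro Q (rfl | rfl)
      · exact le_sup_left
      · exact le_sup_right
    · exact sup_le (le_sSup (Or.inl rfl)) (le_sSup (Or.inr rfl))
  obtain ⟨no, A, hAS, m, Q, hQ, hAQ⟩ := exists_minOff FF.Glob.ffthmM hc hMW hTT hTW hprin hoff
  by_cases hcon : ∀ B ≤ (S : Subgroup G), MinOff W (P ⊔ R) B → B ≤ centralizer (zl (S : Subgroup G) P : Set G)
  · -- THEOREM B
    have hQR : Q = R := by
      rcases hQ with rfl | rfl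
      · exact absurd (hcon A hAS m) hAQ
      · rfl
    rw [hQR] at hAQ
    have h1 : ∀ B ∈ fam (S : Subgroup G) W (P ⊔ R), B ≤ o2 P := by
      intro B hB
      rw [← IsParS.inf_centralizer S hc h.star]
      refine le_inf hB.1 ?_
      rcases hB.2 with mB | hB2
      · exact hcon B hB.1 mB
      · exact hB2.trans (centralizer_le hVP)
    have h2 := ThmB.Main.le_of_bfam h hty hR hloc (toB (bfam_fam (S := S) hMW no)) h1 A ⟨hAS, Or.inl m⟩
    rw [← IsParS.inf_centralizer S hc hR] at h2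
    exact hAQ (h2.trans inf_le_right)
  · push Not at hcon
    obtain ⟨B, hBS, mB, hBP⟩ := hcon
    have e := eq_of_min FF.Glob.ffthmM hc h.star le_sup_left h.toHyp.cv hWc
      (fun x hx => (ChoiceBase.mem_zc.1 (ThmB.Inst.zl_sup_le hc hL hx)).2.1) hMW hVP
      (ThmB.Inst.zl_sup_S hc hL) no mB hBS hBP
    exact hne (hVR.trans e.le)

/-! ### The leaf (S1) -/

open Cfsg.Agent.Omega.NO3S.Level (W0 WSt X0 M0 K0 M0_norm S_le_M0 par_le X0_comm X0_sq)
open Cfsg.Agent.Omega.NOne.Flat (EE)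

/-- **(S1)**: the W-stage with radicals: all active members of `P*(S)` have `C_Z(R) ≠ 1`. -/
structure Rad (S : Sylow 2 G) : Prop extends W0 S where
  rad : ∀ R F, WSt S R F → zc (S : Subgroup G) ⊓ centralizer (R : Set G) ≠ ⊥

namespace Rad

variable (h : Rad S)
include h

/-- Every `P ∈ P**` is passive. -/
theorem pas {F : Subgroup G} (hP : PSS (S : Subgroup G) P) (hyp : NOne.Flat.Hyp (X0 (S : Subgroup G)) F)
    (WS : NOne.Flat.WW (X0 (S : Subgroup G)) F ≤ (S : Subgroup G)) : NOne.Flat.WW (X0 (S : Subgroup G)) F ≤ o2 P := by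
  by_contra hcon
  exact h.rad P F { toW0 := h.toW0, par := hP.par, hyp := hyp, WS := WS, mv := hcon }
    (h.toHypC.hypN hP.par hP.nonLoc).toHyp.inf_eq_bot

/-- `|Z| > 2` -/
theorem two {F : Subgroup G} (w : WSt S R F) : ∃ z ∈ zc (S : Subgroup G), ∃ z' ∈ zc (S : Subgroup G), z ≠ 1 ∧
    z' ≠ 1 ∧ z ≠ z' := by
  obtain ⟨z, hz, hz1⟩ := ThmB.Main.exists_ne (h.rad R F w)
  by_contra hcon
  push Not at hcon
  apply ThmB.Main.not_cent w.par
  intro g hg
  rw [mem_centralizer_iff]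
  intro z' hz'
  by_cases h1 : z' = 1
  · rw [h1, one_mul, mul_one]
  · have e := hcon z hz.1 z' hz' hz1 h1
    rw [← e]
    exact (mem_centralizer_iff.1 hz.2 g hg).symm

/-- `V_R ≰ V_P` for `R` active, `P ∈ P**`. -/
theorem not_le {F : Subgroup G} (w : WSt S R F) (hP : PSS (S : Subgroup G) P) :
    ¬ zl (S : Subgroup G) R ≤ zl (S : Subgroup G) P := by
  intro h1
  apply w.mv
  rw [← IsParS.inf_centralizer S h.ctx.char2 w.par]
  have h2 := h.pas hP w.hyp w.WS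
  rw [← IsParS.inf_centralizer S h.ctx.char2 hP.par] at h2
  exact le_inf w.WS ((h2.trans inf_le_right).trans (centralizer_le h1))

/-- `⟨Z^Y⟩` has no offender, `Y = ⟨P, R⟩`. -/
theorem not_off {F : Subgroup G} (w : WSt S R F) (hP : PSS (S : Subgroup G) P) :
    ¬ ∃ A ≤ P ⊔ R, OffM (zl (S : Subgroup G) (P ⊔ R)) A :=
  S1.not_off (h.toHypC.hypN hP.par hP.nonLoc) (h.ty P hP) w.par (Or.inr (h.two w)) (h.not_le w hP)

/-- `Y = ⟨P, R⟩ ≤ N_G(X₀)` -/
theorem Y_le {F : Subgroup G} (w : WSt S R F) (hP : PSS (S : Subgroup G) P) :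
    P ⊔ R ≤ normalizer (X0 (S : Subgroup G) : Set G) :=
  (sup_le (par_le hP.par) (par_le w.par)).trans (M0_norm _)

/-- **`⟨Z^Y⟩ ≰ E_F`.** -/
theorem not_le_EE {F : Subgroup G} (w : WSt S R F) (hP : PSS (S : Subgroup G) P) :
    ¬ zl (S : Subgroup G) (P ⊔ R) ≤ EE (X0 (S : Subgroup G)) F := by
  intro hE
  refine h.not_off w hP ⟨NOne.Flat.WW (X0 (S : Subgroup G)) F, w.WS.trans (w.par.le.trans le_sup_right), ?_⟩
  have hLV : zl (S : Subgroup G) (P ⊔ R) ≤ X0 (S : Subgroup G) := hE.trans inf_le_left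
  have h1 := w.hyp.elemM_W
  refine { sq := fun a ha => centralizer_le hLV (h1.sq a ha)
           comm := fun a ha b hb => centralizer_le hLV (h1.comm a ha b hb)
           ne := fun hc => w.mv ?_
           le := FFThm.relIndex_le_iff.2 (w.hyp.off_of_le_all hE) }
  rw [← IsParS.inf_centralizer S h.ctx.char2 w.par]
  refine le_inf w.WS (hc.trans (centralizer_le ?_))
  exact ZN.zl_le ZN.zc_le_zl (le_sup_right.trans (ZN.le_normalizer_zl _ _))

end Rad

end Cfsg.Agent.Omega.NO3S.GFF.S1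

end

section


/-!
# GammaFF, (S1) (#21629, helper335): the frame

`P ∈ P**`, `P₁` active, the types `TT S P P₁ = {P} ∪ {P₁^v : v ∈ N_P(S)}`, the geometry of `Y = ⟨P, P₁⟩`.

* `Fnt S P P₁ V F n` : `FrT` for `TT`, `W_F ≤ S`, `n ≥ 1`; `Fnt.conj` : the same for `F^y`, `y ∈ Y`, `W_F^y ≤ S`;
* `BF`, `IF` : the groups `B`, `I`; `BF_conj`, `IF_conj`; `Fnt.line_le_I`, `Fnt.zl_le_I`;
* `Fnt.not_le_E` / `exists_fnt` : from `Rad`: a front with a bad line at distance `n`.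
-/

set_option autoImplicit false
set_option linter.unusedSectionVars false

namespace Cfsg.Agent.Omega.NO3S.SOne

open Subgroup Cfsg Cfsg.Agent.ZN Cfsg.Agent.Omega.MinPar
open Cfsg.Agent.Omega.NoFF.Basic (conj_conj mem_conj conj_le_iff conj_le_centralizer comm_symm comm_mono
  V_le Gal conj_self)
open Cfsg.Agent.Omega.NOne.Flat (EE NN BadX Cos conj_eq_of_norm conj_centralizer WW_conj EE_conj NN_conj conj_eq_of_cent)
open Cfsg.Agent.Omega.NOne.NearFF (c c_def)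
open Cfsg.Agent.Omega.NO3S.Pas (ChT GdT BBT FrT BLT bhT WFr)
open Cfsg.Agent.Omega.NOThreeL.Low.Key (BH)
open Cfsg.Agent.Omega.NO3S.Level (W0 WSt X0 M0 K0 M0_norm S_le_M0 par_le X0_comm X0_sq)
open Cfsg.Agent.Omega.NO3S.GFF.S1 (Rad)
open scoped Pointwise

universe u

variable {G : Type u} [Group G]

/-- The types `P`, `P₁^v`, `v ∈ N_P(S)`. -/
def TT (S P P₁ : Subgroup G) : Set (Subgroup G) :=
  {R | R = P ∨ ∃ v ∈ P ⊓ normalizer (S : Set G), R = MulAut.conj v • P₁}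

theorem P_mem_TT {S P P₁ : Subgroup G} : P ∈ TT S P P₁ := Or.inl rfl

theorem conj_mem_TT {S P P₁ : Subgroup G} {v : G} (hv : v ∈ P ⊓ normalizer (S : Set G)) :
    MulAut.conj v • P₁ ∈ TT S P P₁ := Or.inr ⟨v, hv, rfl⟩

theorem P₁_mem_TT {S P P₁ : Subgroup G} : P₁ ∈ TT S P P₁ := by
  have h := conj_mem_TT (P₁ := P₁) (one_mem (P ⊓ normalizer (S : Set G)))
  rwa [map_one, one_smul] at h

theorem TT_le {S P P₁ : Subgroup G} : ∀ R ∈ TT S P P₁, R ≤ P ⊔ P₁ := by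
  rintro R (rfl | ⟨v, hv, rfl⟩)
  · exact le_sup_left
  · have h1 : MulAut.conj v • (P ⊔ P₁) = P ⊔ P₁ := conj_self ((le_sup_left : P ≤ P ⊔ P₁) hv.1)
    rw [← h1]
    exact conj_le_iff.2 le_sup_right

theorem le_sSup_TT {S P P₁ : Subgroup G} : P ⊔ P₁ ≤ sSup (TT S P P₁) :=
  sup_le (le_sSup P_mem_TT) (le_sSup P₁_mem_TT)

/-- `N(S)` acts on `P*(S)`. -/
theorem parS_conj {S R : Subgroup G} (hR : IsParS S R) {v : G} (hv : v ∈ normalizer (S : Set G)) :
    IsParS S (MulAut.conj v • R) := by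
  have h5 := IsParS.map (MulAut.conj v) hR
  have h6 : S.map (MulAut.conj v).toMonoidHom = S := conj_eq_of_norm hv
  rw [h6] at h5
  exact h5

/-! ### conjugation of the front -/

section conj

variable {𝒯 : Set (Subgroup G)} {M S V F : Subgroup G} {n : ℕ} {y : G}

theorem cj_inv_cj (y : G) (A : Subgroup G) : MulAut.conj y⁻¹ • MulAut.conj y • A = A := by
  rw [conj_conj, inv_mul_cancel, map_one, one_smul]

theorem cj_cj_inv (y : G) (A : Subgroup G) : MulAut.conj y • MulAut.conj y⁻¹ • A = A := by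
  rw [conj_conj, mul_inv_cancel, map_one, one_smul]

theorem chT_conj {A : Subgroup G} {j : ℕ} {x : G} (hy : y ∈ M) (h : ChT 𝒯 M S A j x) :
    ChT 𝒯 M S (MulAut.conj y • A) j (y * x) := by
  obtain ⟨a, ha, haW, hax⟩ := h
  refine ⟨y * a, mul_mem hy ha, ?_, hax.mul_left y⟩
  rw [← conj_conj]
  exact conj_le_iff.2 haW

theorem chT_conj_iff {A : Subgroup G} {j : ℕ} {x : G} (hy : y ∈ M) :
    ChT 𝒯 M S (MulAut.conj y • A) j (y * x) ↔ ChT 𝒯 M S A j x := by
  refine ⟨fun h => ?_, chT_conj hy⟩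
  have h1 := chT_conj (inv_mem hy) h
  rwa [cj_inv_cj, inv_mul_cancel_left] at h1

/-- `B` -/
abbrev BF (𝒯 : Set (Subgroup G)) (M S V : Subgroup G) (n : ℕ) (F : Subgroup G) : Subgroup G :=
  BLT 𝒯 M S V F n

/-- `I = V ∩ B` -/
abbrev IF (𝒯 : Set (Subgroup G)) (M S V : Subgroup G) (n : ℕ) (F : Subgroup G) : Subgroup G :=
  V ⊓ BLT 𝒯 M S V F n

theorem BBT_conj_le (hM : M ≤ normalizer (V : Set G)) (hy : y ∈ M) :
    MulAut.conj y • BBT 𝒯 M S V F n ≤ BBT 𝒯 M S V (MulAut.conj y • F) n := by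
  have hyV := hM hy
  rw [← conj_le_iff (g := y⁻¹), cj_inv_cj]
  refine sSup_le ?_
  rintro _ ⟨l, ⟨j, hj, g, hg, R, hR, rfl, hl⟩, x, hx, rfl⟩
  rw [← conj_le_iff (g := y), cj_cj_inv]
  refine le_sSup ⟨MulAut.conj y • MulAut.conj g • zl S R, ⟨j, hj, y * g, ?_, R, hR, ?_, ?_⟩, y * x * y⁻¹, ?_, ?_⟩
  · rw [← WW_conj hyV]
    exact chT_conj hy hg
  · rw [conj_conj]
  · rw [← EE_conj hyV]
    exact conj_le_iff.2 hl
  · rw [← conj_centralizer, mem_conj]
    have e : y⁻¹ * (y * x * y⁻¹) * y = x := by group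
    rwa [e]
  · rw [conj_conj, conj_conj, conj_conj, conj_conj]
    congr 1
    group

theorem BBT_conj (hM : M ≤ normalizer (V : Set G)) (hy : y ∈ M) :
    BBT 𝒯 M S V (MulAut.conj y • F) n = MulAut.conj y • BBT 𝒯 M S V F n := by
  refine le_antisymm ?_ (BBT_conj_le hM hy)
  have h1 := BBT_conj_le (𝒯 := 𝒯) (S := S) (F := MulAut.conj y • F) (n := n) hM (inv_mem hy)
  rw [cj_inv_cj] at h1
  have h2 := conj_le_iff (g := y).2 h1
  rwa [cj_cj_inv] at h2

theorem BF_conj (hM : M ≤ normalizer (V : Set G)) (hy : y ∈ M) :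
    BF 𝒯 M S V n (MulAut.conj y • F) = MulAut.conj y • BF 𝒯 M S V n F := by
  rw [BF, BLT, BBT_conj hM hy, ← Subgroup.smul_sup]

theorem IF_conj (hM : M ≤ normalizer (V : Set G)) (hy : y ∈ M) :
    IF 𝒯 M S V n (MulAut.conj y • F) = MulAut.conj y • IF 𝒯 M S V n F := by
  have h1 := BF_conj (𝒯 := 𝒯) (S := S) (F := F) (n := n) hM hy
  rw [BF] at h1
  rw [IF, IF, h1, Subgroup.smul_inf, conj_eq_of_norm (hM hy)]

theorem frT_conj [Finite G] {S : Sylow 2 G} (h : FrT 𝒯 S M V F n) (hy : y ∈ M)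
    (hW : NOne.Flat.WW V (MulAut.conj y • F) ≤ (S : Subgroup G)) (hne : 𝒯.Nonempty) : FrT 𝒯 S M V (MulAut.conj y • F) n := by
  have hyV := h.MV hy
  refine { hc := h.hc, noff := h.noff, hyp := h.hyp.conj hyV, TT := h.TT, PM := h.PM, MV := h.MV, ZV := h.ZV
           least := ?_, one := ?_ }
  · intro j hj g hg R hR
    rw [← WW_conj hyV] at hg
    have h1 : ChT 𝒯 M (S : Subgroup G) (NOne.Flat.WW V F) j (y⁻¹ * g) := by
      rw [← chT_conj_iff hy, mul_inv_cancel_left]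
      exact hg
    have h2 := conj_le_iff (g := y).2 (h.least j hj _ h1 R hR)
    rwa [conj_conj, mul_inv_cancel_left, EE_conj hyV] at h2
  · refine ChT.mono (Nat.zero_le n) hne ?_
    exact ⟨1, one_mem _, by rw [map_one, one_smul]; exact hW, Gal.zero _⟩

end conj

/-! ### the front of (S1) -/

variable [Finite G] {S : Sylow 2 G} {P P₁ V F : Subgroup G} {n : ℕ}

/-- The front of (S1). -/
structure Fnt (S : Sylow 2 G) (P P₁ V F : Subgroup G) (n : ℕ) : Prop where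
  fr : FrT (TT (S : Subgroup G) P P₁) S (P ⊔ P₁) V F n
  WS : NOne.Flat.WW V F ≤ (S : Subgroup G)
  one_le : 1 ≤ n

namespace Fnt

variable (h : Fnt S P P₁ V F n)
include h

theorem hyp : NOne.Flat.Hyp V F := h.fr.hyp

theorem bh : BH V F (BF (TT (S : Subgroup G) P P₁) (P ⊔ P₁) (S : Subgroup G) V n F) := bhT h.fr

theorem par₁ : IsParS (S : Subgroup G) P₁ := h.fr.TT _ P₁_mem_TT

theorem par : IsParS (S : Subgroup G) P := h.fr.TT _ P_mem_TT

theorem norm {y : G} (hy : y ∈ P ⊔ P₁) : y ∈ normalizer (V : Set G) := h.fr.MV hy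

/-- `S ≤ Y` -/
theorem S_le : (S : Subgroup G) ≤ P ⊔ P₁ := h.par.le.trans le_sup_left

theorem conj {y : G} (hy : y ∈ P ⊔ P₁) (hW : MulAut.conj y • NOne.Flat.WW V F ≤ (S : Subgroup G)) :
    Fnt S P P₁ V (MulAut.conj y • F) n where
  fr := frT_conj h.fr hy (by rwa [← WW_conj (h.norm hy)]) ⟨P, P_mem_TT⟩
  WS := by rwa [← WW_conj (h.norm hy)]
  one_le := h.one_le

/-- the chambers of `Δ` -/
theorem ch {g : G} (hg : g ∈ P ⊔ P₁) (hW : NOne.Flat.WW V F ≤ MulAut.conj g • (S : Subgroup G)) :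
    ChT (TT (S : Subgroup G) P P₁) (P ⊔ P₁) (S : Subgroup G) (NOne.Flat.WW V F) 0 g := ⟨g, hg, hW, Gal.zero _⟩

theorem ch_one : ChT (TT (S : Subgroup G) P P₁) (P ⊔ P₁) (S : Subgroup G) (NOne.Flat.WW V F) 0 1 :=
  h.ch (one_mem _) (by rw [map_one, one_smul]; exact h.WS)

/-- lines of the chambers of `Δ` are good -/
theorem good {g : G} (hg : g ∈ P ⊔ P₁) (hW : NOne.Flat.WW V F ≤ MulAut.conj g • (S : Subgroup G)) {R : Subgroup G}
    (hR : R ∈ TT (S : Subgroup G) P P₁) : MulAut.conj g • zl (S : Subgroup G) R ≤ EE V F :=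
  h.fr.least 0 (Nat.lt_of_lt_of_le Nat.zero_lt_one h.one_le) g (h.ch hg hW) R hR

/-- good lines at distance `≤ n` lie in `B` -/
theorem line_le_B {j : ℕ} (hj : j ≤ n) {g : G}
    (hg : ChT (TT (S : Subgroup G) P P₁) (P ⊔ P₁) (S : Subgroup G) (NOne.Flat.WW V F) j g) {R : Subgroup G}
    (hR : R ∈ TT (S : Subgroup G) P P₁) (hE : MulAut.conj g • zl (S : Subgroup G) R ≤ EE V F) :
    MulAut.conj g • zl (S : Subgroup G) R ≤ BF (TT (S : Subgroup G) P P₁) (P ⊔ P₁) (S : Subgroup G) V n F :=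
  (FrT.le_BB' (FrT.mem_Gd hj hg hR hE)).trans le_sup_left

/-- good lines at distance `≤ n` lie in `I` -/
theorem line_le_I {j : ℕ} (hj : j ≤ n) {g : G}
    (hg : ChT (TT (S : Subgroup G) P P₁) (P ⊔ P₁) (S : Subgroup G) (NOne.Flat.WW V F) j g) {R : Subgroup G}
    (hR : R ∈ TT (S : Subgroup G) P P₁) (hE : MulAut.conj g • zl (S : Subgroup G) R ≤ EE V F) :
    MulAut.conj g • zl (S : Subgroup G) R ≤ IF (TT (S : Subgroup G) P P₁) (P ⊔ P₁) (S : Subgroup G) V n F :=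
  le_inf (h.fr.line_le_V (h.fr.mem_M hg) hR) (h.line_le_B hj hg hR hE)

/-- the lines of the chambers of `Δ` lie in `I` -/
theorem line_le_I' {g : G} (hg : g ∈ P ⊔ P₁) (hW : NOne.Flat.WW V F ≤ MulAut.conj g • (S : Subgroup G)) {R : Subgroup G}
    (hR : R ∈ TT (S : Subgroup G) P P₁) :
    MulAut.conj g • zl (S : Subgroup G) R ≤ IF (TT (S : Subgroup G) P P₁) (P ⊔ P₁) (S : Subgroup G) V n F :=
  h.line_le_I (Nat.zero_le n) (h.ch hg hW) hR (h.good hg hW hR)

/-- `V_R ≤ I`, `R ∈ TT` -/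
theorem zl_le_I {R : Subgroup G} (hR : R ∈ TT (S : Subgroup G) P P₁) :
    zl (S : Subgroup G) R ≤ IF (TT (S : Subgroup G) P P₁) (P ⊔ P₁) (S : Subgroup G) V n F := by
  have h1 := h.line_le_I' (one_mem _) (by rw [map_one, one_smul]; exact h.WS) hR
  rwa [map_one, one_smul] at h1

/-- `V_R^p` for `R ∈ TT`, `p ∈ R' ∈ TT`: in `I`, if good -/
theorem line_le_I_one {R R' : Subgroup G} (hR : R ∈ TT (S : Subgroup G) P P₁) (hR' : R' ∈ TT (S : Subgroup G) P P₁)
    {p : G} (hp : p ∈ R') (hE : MulAut.conj p • zl (S : Subgroup G) R ≤ EE V F) :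
    MulAut.conj p • zl (S : Subgroup G) R ≤ IF (TT (S : Subgroup G) P P₁) (P ⊔ P₁) (S : Subgroup G) V n F := by
  have h1 := h.ch_one.mul hR' hp
  rw [one_mul] at h1
  exact h.line_le_I h.one_le h1 hR hE

/-- `B ≤ S` -/
theorem B_le_S : BF (TT (S : Subgroup G) P P₁) (P ⊔ P₁) (S : Subgroup G) V n F ≤ (S : Subgroup G) := by
  have h1 := Pas.BL_le_conjT h.fr (Nat.zero_le n) h.ch_one
  rwa [map_one, one_smul] at h1

end Fnt

/-- `N_P(S)` acts on the types. -/
theorem zl_conj {v : G} (hv : v ∈ normalizer ((S : Subgroup G) : Set G)) (R : Subgroup G) :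
    MulAut.conj v • zl (S : Subgroup G) R = zl (S : Subgroup G) (MulAut.conj v • R) := by
  have h1 := zl_map (MulAut.conj v).toMonoidHom (MulAut.conj v).injective (S : Subgroup G) R
  have h2 : (S : Subgroup G).map (MulAut.conj v).toMonoidHom = S := conj_eq_of_norm hv
  rw [h2] at h1
  exact h1.symm

/-! ### the local form of (S1) -/

/-- **(S1) at one `F`**: `P₁` active with `C_Z(P₁) ≠ 1`, `P ∈ P**` passive. -/
structure Sg (S : Sylow 2 G) (P P₁ F : Subgroup G) : Prop extends WSt S P₁ F where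
  hz : zc (S : Subgroup G) ⊓ centralizer (P₁ : Set G) ≠ ⊥
  hP : PSS (S : Subgroup G) P
  hp : NOne.Flat.WW (X0 (S : Subgroup G)) F ≤ o2 P

theorem sg_of_rad (h : Rad S) (w : WSt S P₁ F) (hP : PSS (S : Subgroup G) P) : Sg S P P₁ F :=
  { toWSt := w, hz := h.rad P₁ F w, hP := hP, hp := h.pas hP w.hyp w.WS }

namespace Sg

variable (h : Sg S P P₁ F)
include h

/-- `|Z| > 2` -/
theorem two : ∃ z ∈ zc (S : Subgroup G), ∃ z' ∈ zc (S : Subgroup G), z ≠ 1 ∧ z' ≠ 1 ∧ z ≠ z' := by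
  obtain ⟨z, hz, hz1⟩ := ThmB.Main.exists_ne h.hz
  by_contra hcon
  push Not at hcon
  apply ThmB.Main.not_cent h.par
  intro g hg
  rw [mem_centralizer_iff]
  intro z' hz'
  by_cases h1 : z' = 1
  · rw [h1, one_mul, mul_one]
  · have e := hcon z hz.1 z' hz' hz1 h1
    rw [← e]
    exact (mem_centralizer_iff.1 hz.2 g hg).symm

theorem not_le : ¬ zl (S : Subgroup G) P₁ ≤ zl (S : Subgroup G) P := by
  intro h1
  apply h.mv
  rw [← IsParS.inf_centralizer S h.ctx.char2 h.par]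
  have h2 := h.hp
  rw [← IsParS.inf_centralizer S h.ctx.char2 h.hP.par] at h2
  exact le_inf h.WS ((h2.trans inf_le_right).trans (centralizer_le h1))

theorem not_off : ¬ ∃ A ≤ P ⊔ P₁, FFThm.OffM (zl (S : Subgroup G) (P ⊔ P₁)) A :=
  GFF.S1.not_off (h.toHypC.hypN h.hP.par h.hP.nonLoc) (h.ty P h.hP) h.par (Or.inr h.two) h.not_le

theorem Y_le : P ⊔ P₁ ≤ normalizer (X0 (S : Subgroup G) : Set G) :=
  (sup_le (par_le h.hP.par) (par_le h.par)).trans (M0_norm _)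

theorem not_le_EE : ¬ zl (S : Subgroup G) (P ⊔ P₁) ≤ EE (X0 (S : Subgroup G)) F := by
  intro hE
  refine h.not_off ⟨NOne.Flat.WW (X0 (S : Subgroup G)) F, h.WS.trans (h.par.le.trans le_sup_right), ?_⟩
  have hLV : zl (S : Subgroup G) (P ⊔ P₁) ≤ X0 (S : Subgroup G) := hE.trans inf_le_left
  have h1 := h.hyp.elemM_W
  refine { sq := fun a ha => centralizer_le hLV (h1.sq a ha)
           comm := fun a ha b hb => centralizer_le hLV (h1.comm a ha b hb)
           ne := fun hc => h.mv ?_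
           le := FFThm.relIndex_le_iff.2 (h.hyp.off_of_le_all hE) }
  rw [← IsParS.inf_centralizer S h.ctx.char2 h.par]
  refine le_inf h.WS (hc.trans (centralizer_le ?_))
  exact ZN.zl_le ZN.zc_le_zl (le_sup_right.trans (ZN.le_normalizer_zl _ _))

end Sg

/-- **The front exists.** -/
theorem exists_fnt (h : Sg S P P₁ F) :
    ∃ n, Fnt S P P₁ (X0 (S : Subgroup G)) F n ∧ ∃ g R,
      ChT (TT (S : Subgroup G) P P₁) (P ⊔ P₁) (S : Subgroup G) (NOne.Flat.WW (X0 (S : Subgroup G)) F) n g ∧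
      R ∈ TT (S : Subgroup G) P P₁ ∧ ¬ MulAut.conj g • zl (S : Subgroup G) R ≤ EE (X0 (S : Subgroup G)) F := by
  classical
  have hMV := h.Y_le
  have hTT : ∀ R ∈ TT (S : Subgroup G) P P₁, IsParS (S : Subgroup G) R := by
    rintro R (rfl | ⟨v, hv, rfl⟩)
    · exact h.hP.par
    · exact parS_conj h.par hv.2
  have wf : WFr S (M0 (S : Subgroup G)) (X0 (S : Subgroup G)) F :=
    { hc := h.ctx.char2, noff := h.noFF, low := h.low, hyp := h.hyp
      PM := fun R hR => par_le hR, MV := M0_norm _, ZV := h.zc_le_X0, WS := h.WS }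
  have hYM : P ⊔ P₁ ≤ M0 (S : Subgroup G) := sup_le (par_le h.hP.par) (par_le h.par)
  have hex : ∃ n : ℕ, ∃ g R, ChT (TT (S : Subgroup G) P P₁) (P ⊔ P₁) (S : Subgroup G)
      (NOne.Flat.WW (X0 (S : Subgroup G)) F) n g ∧ R ∈ TT (S : Subgroup G) P P₁ ∧
      ¬ MulAut.conj g • zl (S : Subgroup G) R ≤ EE (X0 (S : Subgroup G)) F := by
    by_contra hcon
    push Not at hcon
    apply h.not_le_EE
    refine iSup_le fun y => ?_
    obtain ⟨k, hk⟩ := Pas.exists_galT (le_sSup_TT (S := (S : Subgroup G)) y.2)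
    have h1 := hcon k y P ⟨1, one_mem _, by rw [map_one, one_smul]; exact h.WS, hk⟩ P_mem_TT
    exact (conj_le_iff.2 (MinSimple.VModule.zc_le_zl (S : Subgroup G) P)).trans h1
  obtain ⟨g, R, hg, hR, hgR⟩ := Nat.find_spec hex
  have hmin := fun j (hj : j < Nat.find hex) => Nat.find_min hex hj
  set n := Nat.find hex with hn
  have hn1 : 1 ≤ n := by
    by_contra h0
    have h0 : n = 0 := by omega
    rw [h0] at hg
    have hgM := hg.mem TT_le
    exact hgR (wf.good (hYM hgM) hg.zero_le (hTT R hR))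
  refine ⟨n, ⟨⟨h.ctx.char2, h.noFF, h.hyp, hTT, TT_le, hMV, h.zc_le_X0, ?_, ?_⟩, h.WS, hn1⟩, g, R, hg, hR, hgR⟩
  · intro j hj x hx Q hQ
    by_contra hcon
    exact hmin j hj ⟨x, Q, hx, hQ, hcon⟩
  · refine ChT.mono (Nat.zero_le n) ⟨P, P_mem_TT⟩ ?_
    exact ⟨1, one_mem _, by rw [map_one, one_smul]; exact h.WS, Gal.zero _⟩

/-- **The frame `SO` of (S1)** from the front. -/
theorem Fnt.so (h : Fnt S P P₁ V F n) (act : ¬ NOne.Flat.WW V F ≤ o2 P₁) :
    SO S V F (BF (TT (S : Subgroup G) P P₁) (P ⊔ P₁) (S : Subgroup G) V n F) P P₁ :=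
  { toBH := h.bh
    hc := h.fr.hc
    hP := h.par
    hP₁ := h.par₁
    PV := le_sup_left.trans h.fr.MV
    P₁V := le_sup_right.trans h.fr.MV
    ZV := h.fr.ZV
    WS := h.WS
    act := act
    line0 := fun y hy hW => h.line_le_B (Nat.zero_le n) (h.ch hy hW) P₁_mem_TT (h.good hy hW P₁_mem_TT)
    line1 := by
      intro g hg v hv hN hE
      have h1 : MulAut.conj (g * v) • zl (S : Subgroup G) P₁ =
          MulAut.conj g • zl (S : Subgroup G) (MulAut.conj v • P₁) := by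
        rw [← zl_conj hN, conj_conj]
      rw [h1] at hE ⊢
      have h2 := h.ch_one.mul P₁_mem_TT hg
      rw [one_mul] at h2
      exact h.line_le_B h.one_le h2 (conj_mem_TT ⟨hv, hN⟩) hE
    BS := by
      intro g hg
      have h2 := h.ch_one.mul P₁_mem_TT hg
      rw [one_mul] at h2
      exact Pas.BL_le_conjT h.fr h.one_le h2 }

/-- **`SO` for one `F`.** -/
theorem exists_so (h : Sg S P P₁ F) :
    ∃ n, Fnt S P P₁ (X0 (S : Subgroup G)) F n ∧
      SO S (X0 (S : Subgroup G)) F (BF (TT (S : Subgroup G) P P₁) (P ⊔ P₁) (S : Subgroup G) (X0 (S : Subgroup G)) n F)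
        P P₁ ∧ ∃ g R,
      ChT (TT (S : Subgroup G) P P₁) (P ⊔ P₁) (S : Subgroup G) (NOne.Flat.WW (X0 (S : Subgroup G)) F) n g ∧
      R ∈ TT (S : Subgroup G) P P₁ ∧ ¬ MulAut.conj g • zl (S : Subgroup G) R ≤ EE (X0 (S : Subgroup G)) F := by
  obtain ⟨n, hf, hbad⟩ := exists_fnt h
  exact ⟨n, hf, hf.so h.mv, hbad⟩

/-- passivity of `P` for all conjugates, from `Rad` -/
theorem pas_of_rad (h : Rad S) (w : WSt S P₁ F) (hP : PSS (S : Subgroup G) P) :
    ∀ y ∈ P ⊔ P₁, MulAut.conj y • NOne.Flat.WW (X0 (S : Subgroup G)) F ≤ (S : Subgroup G) →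
      MulAut.conj y • NOne.Flat.WW (X0 (S : Subgroup G)) F ≤ o2 P := by
  intro y hy hW
  have h1 := (sg_of_rad h w hP).Y_le hy
  rw [WW_conj h1] at hW ⊢
  exact h.pas hP (w.hyp.conj h1) hW

end Cfsg.Agent.Omega.NO3S.SOne

end

section


/-!
# GammaFF, (S1), local form

`RadW S P R F` : the W-stage, `R` active with `C_Z(R) ≠ 1`, `P ∈ P**` with `W_F ≤ O₂(P)` (for this `F` only).

* `RadW.two` : `|Z| > 2`; `RadW.not_off` : `⟨Z^Y⟩` is not FF, `Y = ⟨P, R⟩`; `RadW.not_le_EE` : `⟨Z^Y⟩ ≰ E_F`;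
* `RadW.tr` : `P ∩ N(S)` is transitive on `Z#`;
* `Rad.radW` : in the situation `Rad S` every `P ∈ P**` and every active `R` are in this situation.
-/

set_option autoImplicit false
set_option linter.unusedSectionVars false

namespace Cfsg.Agent.Omega.NO3S.GFF.S1

open Subgroup Cfsg Cfsg.Agent.ZN Cfsg.Agent.Omega.MinPar Cfsg.Agent.Omega.Frame
open Cfsg.Agent.Omega.NO3S Cfsg.Agent.Omega.NO3S.ThmB
open Cfsg.Agent.Omega.FFThm (NatKM SymKM OffM ElemM NoOverM StmtM ConclM)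
open Cfsg.Agent.Omega.FrameFF (cv)
open Cfsg.Agent.Omega.FrameNOFF (CZ)
open Cfsg.Agent.Omega.NO3S.Level (W0 WSt X0 M0 K0 M0_norm S_le_M0 par_le X0_comm X0_sq)
open Cfsg.Agent.Omega.NOne.Flat (EE)

universe u

variable {G : Type u} [Group G] [Finite G] {S : Sylow 2 G} {P R F : Subgroup G}

/-- `P ∩ N(S)` is transitive on `Z#` for `P ∈ P**`. -/
theorem tr_zc (h : HypN S P) (hty : ThmB.Main.Ty (S : Subgroup G) P) :
    ∀ z ∈ zc (S : Subgroup G), ∀ z' ∈ zc (S : Subgroup G), z ≠ 1 → z' ≠ 1 →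
      ∃ g ∈ P, g ∈ normalizer ((S : Subgroup G) : Set G) ∧ g * z * g⁻¹ = z' := by
  intro z hz z' hz' h1 h1'
  have hG := h.ctx.char2
  by_cases hne : z = z'
  · exact ⟨1, one_mem _, one_mem _, by rw [one_mul, inv_one, mul_one]; exact hne⟩
  rcases hty with h3 | h3
  · exact absurd (h3 z hz z' hz' h1 h1') hne
  rcases h3 with ⟨F0, j1, j2, j3, k0, -, ⟨N⟩⟩ | ⟨k0, m, hk0, hm, ⟨N⟩⟩
  · have hWP : P ≤ normalizer (zl (S : Subgroup G) P : Set G) := le_normalizer_zl _ _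
    have hS : ChoiceSit.Syl (S : Subgroup G) P := OneLine.syl_of h.star
    have N' := N.toNatK
    rw [h.toHyp.cv] at N'
    have hZ := ThmB.Main.zc_eq hG h.star.isLoc
    refine TrNat.tr N' hWP hS z ?_ z' ?_ h1 h1'
    · rw [hZ]; exact hz
    · rw [hZ]; exact hz'
  · exact absurd (ThmB.Main.sym_zc hG h.star h.toHyp.cv hk0 (by omega) N.toSymK hz hz' h1 h1') hne

/-- **(S1), local form.** -/
structure RadW (S : Sylow 2 G) (P R F : Subgroup G) : Prop extends WSt S R F where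
  pss : PSS (S : Subgroup G) P
  hz : zc (S : Subgroup G) ⊓ centralizer (R : Set G) ≠ ⊥
  hp : NOne.Flat.WW (X0 (S : Subgroup G)) F ≤ o2 P

theorem Rad.radW (h : Rad S) (w : WSt S R F) (hP : PSS (S : Subgroup G) P) : RadW S P R F :=
  { toWSt := w, pss := hP, hz := h.rad R F w, hp := h.pas hP w.hyp w.WS }

namespace RadW

variable (w : RadW S P R F)
include w

theorem hypN : HypN S P := w.toHypC.hypN w.pss.par w.pss.nonLoc

/-- `|Z| > 2` -/
theorem two : ∃ z ∈ zc (S : Subgroup G), ∃ z' ∈ zc (S : Subgroup G), z ≠ 1 ∧ z' ≠ 1 ∧ z ≠ z' := by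
  obtain ⟨z, hz, hz1⟩ := ThmB.Main.exists_ne w.hz
  by_contra hcon
  push Not at hcon
  apply ThmB.Main.not_cent w.par
  intro g hg
  rw [mem_centralizer_iff]
  intro z' hz'
  by_cases h1 : z' = 1
  · rw [h1, one_mul, mul_one]
  · have e := hcon z hz.1 z' hz' hz1 h1
    rw [← e]
    exact (mem_centralizer_iff.1 hz.2 g hg).symm

/-- **`P ∩ N(S)` is transitive on `Z#`** -/
theorem tr : ∀ z ∈ zc (S : Subgroup G), ∀ z' ∈ zc (S : Subgroup G), z ≠ 1 → z' ≠ 1 →
    ∃ g ∈ P, g ∈ normalizer ((S : Subgroup G) : Set G) ∧ g * z * g⁻¹ = z' :=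
  tr_zc w.hypN (w.ty P w.pss)

theorem not_le : ¬ zl (S : Subgroup G) R ≤ zl (S : Subgroup G) P := by
  intro h1
  apply w.mv
  rw [← IsParS.inf_centralizer S w.ctx.char2 w.par]
  have h2 := w.hp
  rw [← IsParS.inf_centralizer S w.ctx.char2 w.pss.par] at h2
  exact le_inf w.WS ((h2.trans inf_le_right).trans (centralizer_le h1))

/-- `⟨Z^Y⟩` has no offender, `Y = ⟨P, R⟩`. -/
theorem not_off : ¬ ∃ A ≤ P ⊔ R, OffM (zl (S : Subgroup G) (P ⊔ R)) A :=
  S1.not_off w.hypN (w.ty P w.pss) w.par (Or.inr w.two) w.not_le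

/-- `Y = ⟨P, R⟩ ≤ N_G(X₀)` -/
theorem Y_le : P ⊔ R ≤ normalizer (X0 (S : Subgroup G) : Set G) :=
  (sup_le (par_le w.pss.par) (par_le w.par)).trans (M0_norm _)

/-- **`⟨Z^Y⟩ ≰ E_F`.** -/
theorem not_le_EE : ¬ zl (S : Subgroup G) (P ⊔ R) ≤ EE (X0 (S : Subgroup G)) F := by
  intro hE
  refine w.not_off ⟨NOne.Flat.WW (X0 (S : Subgroup G)) F, w.WS.trans (w.par.le.trans le_sup_right), ?_⟩
  have hLV : zl (S : Subgroup G) (P ⊔ R) ≤ X0 (S : Subgroup G) := hE.trans inf_le_left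
  have h1 := w.hyp.elemM_W
  refine { sq := fun a ha => centralizer_le hLV (h1.sq a ha)
           comm := fun a ha b hb => centralizer_le hLV (h1.comm a ha b hb)
           ne := fun hc => w.mv ?_
           le := FFThm.relIndex_le_iff.2 (w.hyp.off_of_le_all hE) }
  rw [← IsParS.inf_centralizer S w.ctx.char2 w.par]
  refine le_inf w.WS (hc.trans (centralizer_le ?_))
  exact ZN.zl_le ZN.zc_le_zl (le_sup_right.trans (ZN.le_normalizer_zl _ _))

end RadW

end Cfsg.Agent.Omega.NO3S.GFF.S1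

end

section


/-!
# GammaFF, (S1): natural modules with radical

`M : NatKM F S P V D k` with `D` arbitrary, split or not.  `AmbD M` : the ambient facts, `uq` : an element of `P` which is
trivial on `V / D` and on `D` centralises `V`.

* `AmbD.blk` : `g` acting as `A ∈ SL₂(F)^k` centralises the vectors supported where `A = 1`;
* `RtD M i A` : `A` acts as the full root group of the `i`-th factor; `C_V(A) = {v | e v i 1 = 0}` if `A` is an offender;
* `RtD.of` : a minimal offender is a root group; `RtD.of_const` : so is an offender with constant commutators.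
-/

set_option autoImplicit false
set_option linter.unusedSectionVars false
set_option linter.style.haveILetI false

namespace Cfsg.Agent.Omega.NO3S.SOne.NTD

open Subgroup Cfsg Cfsg.Agent.ZN Cfsg.Agent.ZN.ChoiceBase
open Cfsg.Agent.Omega.NOThreeL Cfsg.Agent.Omega.NOThreeL.NF
open Cfsg.Agent.Omega.FFThm (ElemM OffM NoOverM ConclM NatKM ActsSL relIndex_le_iff)
open Cfsg.Agent.Omega.NatPair (ap ap_mul ap_one ap_inv_ap ap_zero' ap_one' ext2 exists_ap)
open Cfsg.Agent.Omega.NOThreeL.NF.NatR (ap_up ap_lo mulSingle_mul mulSingle_inv mulSingle_zero Const)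
open Cfsg.Agent.Lib.SL2Mat
open scoped commutatorElement

universe u

variable {G : Type u} [Group G] {F : Type} [Field F] {S P V D : Subgroup G} {k : ℕ}

/-- `g` acts on `V / D` as `A ∈ SL₂(F)^k` and trivially on `D`. -/
abbrev Ac (M : NatKM F S P V D k) (g : G) (A : Fin k → Matrix.SpecialLinearGroup (Fin 2) F) : Prop :=
  ActsSL M.e V D g A

/-- The ambient facts. -/
structure AmbD (M : NatKM F S P V D k) : Prop where
  SP : S ≤ P
  PV : P ≤ normalizer (V : Set G)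
  comm : ∀ v ∈ V, ∀ w ∈ V, v * w = w * v
  DV : D ≤ V
  uq : ∀ g ∈ P, (∀ v ∈ V, M.e (g * v * g⁻¹) = M.e v) → (∀ d ∈ D, g * d = d * g) → g ∈ centralizer (V : Set G)

section basic

variable {M : NatKM F S P V D k}

theorem e_one : M.e 1 = 0 := by
  have h := M.mul 1 (one_mem _) 1 (one_mem _)
  rw [one_mul] at h
  exact left_eq_add.1 h

theorem e_inv {v : G} (hv : v ∈ V) : M.e v⁻¹ = - M.e v := by
  have h := M.mul v hv v⁻¹ (inv_mem hv)
  rw [mul_inv_cancel, e_one] at h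
  exact (neg_eq_of_add_eq_zero_right h.symm).symm

theorem mem_D {v w : G} (hv : v ∈ V) (hw : w ∈ V) (h : M.e v = M.e w) : v * w⁻¹ ∈ D := by
  have h1 := M.mul v hv w⁻¹ (inv_mem hw)
  rw [e_inv hw, h, add_neg_cancel] at h1
  exact (M.ker _ (mul_mem hv (inv_mem hw))).1 h1

theorem exists_pt (i : Fin k) (x : Fin 2 → F) : ∃ v ∈ V, M.e v i = x ∧ ∀ j, j ≠ i → M.e v j = 0 := by
  classical
  obtain ⟨v, hv, hev⟩ := M.surj (Pi.single i x)
  exact ⟨v, hv, by rw [hev, Pi.single_eq_same], fun j hj => by rw [hev]; exact Pi.single_eq_of_ne hj _⟩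

variable (h : AmbD M)
include h

theorem AmbD.cm {g v : G} (hg : g ∈ P) (hv : v ∈ V) : g * v * g⁻¹ ∈ V := (mem_normalizer_iff.1 (h.PV hg) v).1 hv

theorem AmbD.mul {g g' : G} {A B : Fin k → Matrix.SpecialLinearGroup (Fin 2) F} (hg' : g' ∈ P) (h1 : Ac M g A)
    (h2 : Ac M g' B) : Ac M (g * g') (A * B) := by
  refine ⟨fun v hv i => ?_, fun d hd => ?_⟩
  · have e1 : g * g' * v * (g * g')⁻¹ = g * (g' * v * g'⁻¹) * g⁻¹ := by group
    rw [e1, h1.1 _ (h.cm hg' hv), h2.1 v hv, Pi.mul_apply, ap_mul]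
  · rw [mul_assoc, h2.2 d hd, ← mul_assoc, h1.2 d hd, mul_assoc]

theorem AmbD.inv {g : G} {A : Fin k → Matrix.SpecialLinearGroup (Fin 2) F} (hg : g ∈ P) (h1 : Ac M g A) :
    Ac M g⁻¹ A⁻¹ := by
  refine ⟨fun v hv i => ?_, fun d hd => ?_⟩
  · have h2 := h1.1 _ (h.cm (inv_mem hg) hv) i
    have e1 : g * (g⁻¹ * v * g⁻¹⁻¹) * g⁻¹ = v := by group
    rw [e1] at h2
    rw [h2, Pi.inv_apply, ap_inv_ap]
  · rw [inv_mul_eq_iff_eq_mul, ← mul_assoc, h1.2 d hd, mul_inv_cancel_right]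

theorem AmbD.one {g : G} (hg : g ∈ centralizer (V : Set G)) : Ac M g 1 := by
  refine ⟨fun v hv i => ?_, fun d hd => (mem_centralizer_iff.1 hg d (h.DV hd)).symm⟩
  have e1 : g * v * g⁻¹ = v := by
    have := mem_centralizer_iff.1 hg v hv
    rw [← this]; group
  rw [e1, Pi.one_apply, ap_one]

theorem AmbD.cent {g : G} (hg : g ∈ P) (h1 : Ac M g 1) : g ∈ centralizer (V : Set G) := by
  refine h.uq g hg (fun v hv => ?_) h1.2
  funext i
  rw [h1.1 v hv i, Pi.one_apply, ap_one]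

/-- `g` acting as `A` centralises the vectors supported where `A = 1`. -/
theorem AmbD.blk {g : G} {A : Fin k → Matrix.SpecialLinearGroup (Fin 2) F} (hg : g ∈ P) (h1 : Ac M g A) {v : G}
    (hv : v ∈ V) (h0 : ∀ l, A l ≠ 1 → M.e v l = 0) : g * v * g⁻¹ = v := by
  classical
  -- the commutator with `g`
  have hmem : ∀ w ∈ V, (∀ l, A l ≠ 1 → M.e w l = 0) → g * w * g⁻¹ * w⁻¹ ∈ D := by
    intro w hw hw0
    refine mem_D (M := M) (h.cm hg hw) hw ?_
    funext l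
    rw [h1.1 w hw l]
    by_cases hl : A l = 1
    · rw [hl, ap_one]
    · rw [hw0 l hl]
      exact ext2 (by rw [ap_zero']; simp) (by rw [ap_one']; simp)
  -- `h'` acting as `B` with `A l = 1` or `B l = 1` for all `l`
  have hinv : ∀ (B : Fin k → Matrix.SpecialLinearGroup (Fin 2) F), (∀ l, A l ≠ 1 → B l = 1) →
      ∀ w ∈ V, (∀ l, A l ≠ 1 → M.e w l = 0) → ∀ g' ∈ P, Ac M g' B →
        g * (g' * w * g'⁻¹ * w⁻¹) * g⁻¹ = g' * w * g'⁻¹ * w⁻¹ := by
    intro B hB w hw hw0 g' hg' h2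
    have h3 := h.mul (mul_mem (inv_mem hg) (inv_mem hg')) (h.mul hg' h1 h2) (h.mul (inv_mem hg') (h.inv hg h1) (h.inv hg' h2))
    have h4 : A * B * (A⁻¹ * B⁻¹) = 1 := by
      funext l
      by_cases hl : A l = 1
      · simp [hl]
      · simp [hB l hl]
    rw [h4] at h3
    set z := g * g' * (g⁻¹ * g'⁻¹) with hz
    have h5 : z ∈ centralizer (V : Set G) :=
      h.cent (mul_mem (mul_mem hg hg') (mul_mem (inv_mem hg) (inv_mem hg'))) h3
    have h6 : g * g' = z * (g' * g) := by rw [hz]; group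
    -- `g (g' w g'⁻¹) g⁻¹ = g' (g w g⁻¹) g'⁻¹`
    have h7 : g * (g' * w * g'⁻¹) * g⁻¹ = g' * (g * w * g⁻¹) * g'⁻¹ := by
      have h8 : g' * (g * w * g⁻¹) * g'⁻¹ ∈ V := h.cm hg' (h.cm hg hw)
      have h9 := mem_centralizer_iff.1 h5 _ h8
      calc g * (g' * w * g'⁻¹) * g⁻¹ = (g * g') * w * (g * g')⁻¹ := by group
        _ = z * (g' * g) * w * (z * (g' * g))⁻¹ := by rw [h6]
        _ = z * (g' * (g * w * g⁻¹) * g'⁻¹) * z⁻¹ := by group
        _ = g' * (g * w * g⁻¹) * g'⁻¹ := by rw [← h9]; group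
    have h10 := hmem w hw hw0
    have h11 : g * w * g⁻¹ = (g * w * g⁻¹ * w⁻¹) * w := by group
    have h12 := h2.2 _ h10
    have e : g * (g' * w * g'⁻¹ * w⁻¹) * g⁻¹ = (g * (g' * w * g'⁻¹) * g⁻¹) * (g * w * g⁻¹)⁻¹ := by group
    rw [e, h7]
    have e2 : g' * (g * w * g⁻¹) * g'⁻¹ = (g * w * g⁻¹ * w⁻¹) * (g' * w * g'⁻¹) := by
      calc g' * (g * w * g⁻¹) * g'⁻¹ = g' * (g * w * g⁻¹ * w⁻¹) * w * g'⁻¹ := by group
        _ = (g * w * g⁻¹ * w⁻¹) * g' * w * g'⁻¹ := by rw [h12]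
        _ = (g * w * g⁻¹ * w⁻¹) * (g' * w * g'⁻¹) := by group
    have e3 : (g * w * g⁻¹)⁻¹ = w⁻¹ * (g * w * g⁻¹ * w⁻¹)⁻¹ := by group
    rw [e2, e3]
    have h13 := h.comm _ (h.DV h10) _ (mul_mem (h.cm hg' hw) (inv_mem hw))
    calc (g * w * g⁻¹ * w⁻¹) * (g' * w * g'⁻¹) * (w⁻¹ * (g * w * g⁻¹ * w⁻¹)⁻¹)
        = ((g * w * g⁻¹ * w⁻¹) * (g' * w * g'⁻¹ * w⁻¹)) * (g * w * g⁻¹ * w⁻¹)⁻¹ := by group
      _ = (g' * w * g'⁻¹ * w⁻¹) * (g * w * g⁻¹ * w⁻¹) * (g * w * g⁻¹ * w⁻¹)⁻¹ := by rw [h13]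
      _ = g' * w * g'⁻¹ * w⁻¹ := mul_inv_cancel_right _ _
  -- the two generators
  obtain ⟨w₁, hw₁, he₁⟩ := M.surj fun l => if A l = 1 then ![0, 1] else 0
  obtain ⟨w₂, hw₂, he₂⟩ := M.surj fun l => if A l = 1 then ![1, 0] else 0
  obtain ⟨g₁, hg₁, ha₁⟩ := M.lift fun l => up (M.e v l 0)
  obtain ⟨g₂, hg₂, ha₂⟩ := M.lift fun l => lo (M.e v l 1)
  have h21 := hinv _ (fun l hl => by rw [h0 l hl]; exact up_zero) w₁ hw₁ (fun l hl => by rw [he₁]; simp [hl]) g₁ hg₁ ha₁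
  have h22 := hinv _ (fun l hl => by rw [h0 l hl]; exact lo_zero) w₂ hw₂ (fun l hl => by rw [he₂]; simp [hl]) g₂ hg₂ ha₂
  set a := g₁ * w₁ * g₁⁻¹ * w₁⁻¹ with ha
  set b := g₂ * w₂ * g₂⁻¹ * w₂⁻¹ with hb
  have haV : a ∈ V := mul_mem (h.cm hg₁ hw₁) (inv_mem hw₁)
  have hbV : b ∈ V := mul_mem (h.cm hg₂ hw₂) (inv_mem hw₂)
  have hab : M.e v = M.e (a * b) := by
    rw [M.mul a haV b hbV, ha, hb, M.mul _ (h.cm hg₁ hw₁) _ (inv_mem hw₁), M.mul _ (h.cm hg₂ hw₂) _ (inv_mem hw₂),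
      e_inv hw₁, e_inv hw₂]
    funext l
    rw [Pi.add_apply, Pi.add_apply, Pi.add_apply, ha₁.1 w₁ hw₁ l, ha₂.1 w₂ hw₂ l, Pi.neg_apply, Pi.neg_apply, he₁, he₂,
      ap_up, ap_lo]
    by_cases hl : A l = 1
    · simp only [hl, if_true]
      exact ext2 (by simp) (by simp)
    · simp only [hl, if_false]
      rw [h0 l hl]
      exact ext2 (by simp) (by simp)
  have hd := mem_D (M := M) hv (mul_mem haV hbV) hab
  have h23 : v = v * (a * b)⁻¹ * (a * b) := by group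
  have h24 := h1.2 _ hd
  have h25 : g * (v * (a * b)⁻¹) * g⁻¹ = v * (a * b)⁻¹ := by rw [h24, mul_inv_cancel_right]
  calc g * v * g⁻¹ = (g * (v * (a * b)⁻¹) * g⁻¹) * (g * a * g⁻¹) * (g * b * g⁻¹) := by group
    _ = v * (a * b)⁻¹ * a * b := by rw [h25, h21, h22]
    _ = v := by group

end basic

/-! ### Root groups -/

/-- `A` acts on `V / D` as the full root group of the `i`-th factor, and trivially on `D`. -/
structure RtD (M : NatKM F S P V D k) (i : Fin k) (A : Subgroup G) : Prop where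
  le : A ≤ S
  acts : ∀ a ∈ A, ∃ c : F, Ac M a (Pi.mulSingle i (up c))
  ex : ∀ c : F, ∃ a ∈ A, Ac M a (Pi.mulSingle i (up c))

section root

variable {M : NatKM F S P V D k} {i : Fin k} {A : Subgroup G}

theorem ac_at {a v : G} {c : F} (h : Ac M a (Pi.mulSingle i (up c))) (hv : v ∈ V) :
    M.e (a * v * a⁻¹) i = ![M.e v i 0 + c * M.e v i 1, M.e v i 1] := by
  rw [h.1 v hv i, Pi.mulSingle_eq_same, ap_up]

theorem ac_ne {a v : G} {c : F} (h : Ac M a (Pi.mulSingle i (up c))) (hv : v ∈ V) {j : Fin k} (hj : j ≠ i) :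
    M.e (a * v * a⁻¹) j = M.e v j := by
  rw [h.1 v hv j, Pi.mulSingle_eq_of_ne hj, ap_one]

theorem RtD.zero_of_cent (h : RtD M i A) {v : G} (hv : v ∈ V) (hc : v ∈ centralizer (A : Set G)) :
    M.e v i 1 = 0 := by
  obtain ⟨a, ha, hac⟩ := h.ex 1
  have h1 : a * v * a⁻¹ = v := by
    rw [mem_centralizer_iff.1 hc a ha]; group
  have h2 := ac_at hac hv
  rw [h1] at h2
  have h3 := congrFun h2 0
  simp only [Matrix.cons_val_zero, one_mul] at h3
  exact left_eq_add.1 h3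

theorem key_single [DecidableEq (Fin k)] (i : Fin k) (c : F) : (fun j => up ((Pi.single i c : Fin k → F) j) :
    Fin k → Matrix.SpecialLinearGroup (Fin 2) F) = Pi.mulSingle i (up c) := by
  funext j
  by_cases hj : j = i
  · subst hj; rw [Pi.single_eq_same, Pi.mulSingle_eq_same]
  · rw [Pi.single_eq_of_ne hj, Pi.mulSingle_eq_of_ne hj, up_zero]

variable (h : AmbD M)
include h

/-- `A / C_A(V)` has order `|F|`. -/
theorem RtD.relIndex (hA : RtD M i A) : (centralizer (V : Set G)).relIndex A = Nat.card F := by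
  obtain ⟨v, hv, hvi, hvj⟩ := exists_pt (M := M) i ![0, 1]
  have hval : ∀ a ∈ A, ∀ c, Ac M a (Pi.mulSingle i (up c)) → M.e (a * v * a⁻¹) i 0 = c := by
    intro a _ c hc
    rw [ac_at hc hv, hvi]; simp
  let φ : A →* Multiplicative F :=
    { toFun := fun a => Multiplicative.ofAdd (M.e ((a : G) * v * (a : G)⁻¹) i 0)
      map_one' := by
        change Multiplicative.ofAdd (M.e ((1 : G) * v * (1 : G)⁻¹) i 0) = 1
        rw [one_mul, inv_one, mul_one, hvi]; rfl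
      map_mul' := by
        rintro ⟨a, ha⟩ ⟨b, hb⟩
        obtain ⟨c, hc⟩ := hA.acts a ha
        obtain ⟨d, hd⟩ := hA.acts b hb
        have hab := h.mul (h.SP (hA.le hb)) hc hd
        rw [mulSingle_mul] at hab
        change Multiplicative.ofAdd (M.e ((a * b) * v * (a * b)⁻¹) i 0) =
          Multiplicative.ofAdd (M.e (a * v * a⁻¹) i 0) * Multiplicative.ofAdd (M.e (b * v * b⁻¹) i 0)
        rw [hval _ (mul_mem ha hb) _ hab, hval a ha c hc, hval b hb d hd, ofAdd_add] }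
  have hker : (centralizer (V : Set G)).subgroupOf A = φ.ker := by
    ext ⟨a, ha⟩
    rw [mem_subgroupOf, MonoidHom.mem_ker]
    obtain ⟨c, hc⟩ := hA.acts a ha
    have hφ : φ ⟨a, ha⟩ = Multiplicative.ofAdd c := by
      change Multiplicative.ofAdd (M.e (a * v * a⁻¹) i 0) = _
      rw [hval a ha c hc]
    rw [hφ]
    constructor
    · intro hcen
      have h1 : a * v * a⁻¹ = v := by
        have := mem_centralizer_iff.1 hcen v hv
        change v * a = a * v at this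
        rw [← this]; group
      have h2 := hval a ha c hc
      rw [h1, hvi] at h2
      rw [← h2]; rfl
    · intro h0
      have h1 : c = 0 := Multiplicative.ofAdd.injective h0
      rw [h1, mulSingle_zero] at hc
      exact h.cent (h.SP (hA.le ha)) hc
  unfold Subgroup.relIndex
  rw [hker, index_ker]
  have hr : φ.range = ⊤ := by
    rw [MonoidHom.range_eq_top]
    intro c
    obtain ⟨a, ha, hac⟩ := hA.ex (Multiplicative.toAdd c)
    refine ⟨⟨a, ha⟩, ?_⟩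
    change Multiplicative.ofAdd (M.e (a * v * a⁻¹) i 0) = _
    rw [hval a ha _ hac]; rfl
  rw [hr, Nat.card_congr (topEquiv (G := Multiplicative F)).toEquiv]
  rfl

omit h in
/-- the vectors with second coordinate 0 at `I` -/
def YI (M : NatKM F S P V D k) (I : Set (Fin k)) : Subgroup G where
  carrier := {v | v ∈ V ∧ ∀ i ∈ I, M.e v i 1 = 0}
  mul_mem' := by
    rintro a b ⟨ha, ha1⟩ ⟨hb, hb1⟩
    exact ⟨mul_mem ha hb, fun i hi => by rw [M.mul a ha b hb, Pi.add_apply, Pi.add_apply, ha1 i hi, hb1 i hi, add_zero]⟩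
  one_mem' := ⟨one_mem _, fun i _ => by rw [e_one]; rfl⟩
  inv_mem' := by
    rintro a ⟨ha, ha1⟩
    exact ⟨inv_mem ha, fun i hi => by rw [e_inv ha, Pi.neg_apply, Pi.neg_apply, ha1 i hi, neg_zero]⟩

omit h in
theorem YI_relIndex (I : Set (Fin k)) : (YI M I).relIndex V = Nat.card (I → F) := by
  let ψ : V →* Multiplicative (I → F) :=
    { toFun := fun v => Multiplicative.ofAdd (fun i : I => M.e (v : G) i 1)
      map_one' := by
        change Multiplicative.ofAdd (fun i : I => M.e (1 : G) i 1) = 1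
        rw [e_one]; rfl
      map_mul' := by
        rintro ⟨v, hv⟩ ⟨w, hw⟩
        change Multiplicative.ofAdd (fun i : I => M.e (v * w) i 1) = _
        rw [M.mul v hv w hw]; rfl }
  have hker : (YI M I).subgroupOf V = ψ.ker := by
    ext ⟨v, hv⟩
    rw [mem_subgroupOf, MonoidHom.mem_ker]
    constructor
    · intro hc
      refine congrArg Multiplicative.ofAdd (funext fun i => ?_)
      exact hc.2 i i.2
    · intro h0
      have h1 : (fun i : I => M.e v i 1) = 0 := Multiplicative.ofAdd.injective h0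
      exact ⟨hv, fun i hi => congrFun h1 ⟨i, hi⟩⟩
  unfold Subgroup.relIndex
  rw [hker, index_ker]
  have hr : ψ.range = ⊤ := by
    classical
    rw [MonoidHom.range_eq_top]
    intro c
    obtain ⟨v, hv, hev⟩ := M.surj fun j => if hj : j ∈ I then ![0, Multiplicative.toAdd c ⟨j, hj⟩] else 0
    refine ⟨⟨v, hv⟩, ?_⟩
    change Multiplicative.ofAdd (fun i : I => M.e v i 1) = _
    rw [← ofAdd_toAdd c]
    refine congrArg Multiplicative.ofAdd (funext fun i => ?_)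
    rw [hev]
    simp [i.2]
  rw [hr, Nat.card_congr (topEquiv (G := Multiplicative (I → F))).toEquiv]
  rfl

/-- an offender acting as `∏ R_i`, `i ∈ I`, centralises the vectors with second coordinates 0 at `I` -/
theorem AmbD.fixI [Finite G] {I : Set (Fin k)} (hAS : A ≤ S)
    (h1 : ∀ a ∈ A, ∃ b : Fin k → F, (∀ i, i ∉ I → b i = 0) ∧ Ac M a fun i => up (b i))
    (h2 : ∀ b : Fin k → F, (∀ i, i ∉ I → b i = 0) → ∃ a ∈ A, Ac M a fun i => up (b i)) (hoff : OffM V A) {v : G}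
    (hv : v ∈ V) (h0 : ∀ i ∈ I, M.e v i 1 = 0) : v ∈ centralizer (A : Set G) := by
  classical
  obtain ⟨v₀, hv₀, he₀⟩ := M.surj fun _ => ![0, 1]
  have hval : ∀ a : G, ∀ b : Fin k → F, Ac M a (fun i => up (b i)) → ∀ i, M.e (a * v₀ * a⁻¹) i 0 = b i := by
    intro a b hac i
    rw [hac.1 v₀ hv₀ i, he₀, ap_up]; simp
  let φ : A →* Multiplicative (I → F) :=
    { toFun := fun a => Multiplicative.ofAdd (fun i : I => M.e ((a : G) * v₀ * (a : G)⁻¹) i 0)
      map_one' := by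
        refine congrArg Multiplicative.ofAdd (funext fun i => ?_)
        change M.e ((1 : G) * v₀ * (1 : G)⁻¹) i 0 = 0
        rw [one_mul, inv_one, mul_one, he₀]; rfl
      map_mul' := by
        rintro ⟨a, ha⟩ ⟨b, hb⟩
        obtain ⟨c, -, hc⟩ := h1 a ha
        obtain ⟨d, -, hd⟩ := h1 b hb
        have hab := h.mul (h.SP (hAS hb)) hc hd
        have e1 : ((fun i => up (c i)) * fun i => up (d i) : Fin k → Matrix.SpecialLinearGroup (Fin 2) F) =
            fun i => up (c i + d i) := funext fun i => up_mul _ _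
        rw [e1] at hab
        refine congrArg Multiplicative.ofAdd (funext fun i => ?_)
        change M.e ((a * b) * v₀ * (a * b)⁻¹) i 0 = M.e (a * v₀ * a⁻¹) i 0 + M.e (b * v₀ * b⁻¹) i 0
        rw [hval _ _ hab, hval a c hc, hval b d hd] }
  have hker : (centralizer (V : Set G)).subgroupOf A = φ.ker := by
    ext ⟨a, ha⟩
    rw [mem_subgroupOf, MonoidHom.mem_ker]
    obtain ⟨c, hc0, hc⟩ := h1 a ha
    constructor
    · intro hcen
      have h3 : a * v₀ * a⁻¹ = v₀ := by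
        have := mem_centralizer_iff.1 hcen v₀ hv₀
        change v₀ * a = a * v₀ at this
        rw [← this]; group
      refine congrArg Multiplicative.ofAdd (funext fun i => ?_)
      change M.e (a * v₀ * a⁻¹) i 0 = 0
      rw [h3, he₀]; rfl
    · intro hk
      have h3 : (fun i : I => M.e (a * v₀ * a⁻¹) i 0) = 0 := Multiplicative.ofAdd.injective hk
      have h4 : c = 0 := by
        funext j
        by_cases hj : j ∈ I
        · rw [← hval a c hc j]; exact congrFun h3 ⟨j, hj⟩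
        · exact hc0 j hj
      have h5 : (fun i => up (c i) : Fin k → Matrix.SpecialLinearGroup (Fin 2) F) = 1 := by
        funext j
        rw [h4]; exact up_zero
      rw [h5] at hc
      exact h.cent (h.SP (hAS ha)) hc
  have hA : (centralizer (V : Set G)).relIndex A = Nat.card (I → F) := by
    unfold Subgroup.relIndex
    rw [hker, index_ker]
    have hr : φ.range = ⊤ := by
      rw [MonoidHom.range_eq_top]
      intro c
      obtain ⟨a, ha, hac⟩ := h2 (fun j => if hj : j ∈ I then Multiplicative.toAdd c ⟨j, hj⟩ else 0)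
        (fun j hj => by simp [hj])
      refine ⟨⟨a, ha⟩, ?_⟩
      rw [← ofAdd_toAdd c]
      refine congrArg Multiplicative.ofAdd (funext fun i => ?_)
      change M.e (a * v₀ * a⁻¹) i 0 = _
      rw [hval a _ hac]
      simp [i.2]
    rw [hr, Nat.card_congr (topEquiv (G := Multiplicative (I → F))).toEquiv]
    rfl
  have hle : V ⊓ centralizer (A : Set G) ≤ V ⊓ YI M I := by
    rintro w ⟨hw, hwc⟩
    refine ⟨hw, hw, fun i hi => ?_⟩
    obtain ⟨a, ha, hac⟩ := h2 (Pi.single i 1) (fun j hj => by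
      have : j ≠ i := fun h3 => hj (by rw [h3]; exact hi)
      rw [Pi.single_apply, if_neg this])
    have h3 : a * w * a⁻¹ = w := by
      rw [mem_centralizer_iff.1 hwc a ha]; group
    have h4 := hac.1 w hw i
    simp only [Pi.single_eq_same] at h4
    rw [h3, ap_up] at h4
    have h5 := congrFun h4 0
    simp only [Matrix.cons_val_zero, one_mul] at h5
    exact left_eq_add.1 h5
  have h3 := relIndex_le_iff.1 hoff.le
  rw [hA, ← YI_relIndex (M := M)] at h3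
  have e1 := Star.rel_mul_card V (centralizer (A : Set G))
  have e2 := Star.rel_mul_card V (YI M I)
  have h4 : Nat.card ↥(V ⊓ YI M I) ≤ Nat.card ↥(V ⊓ centralizer (A : Set G)) := by
    have hpos : 0 < (YI M I).relIndex V := Nat.pos_of_ne_zero (by
      rintro h0
      rw [h0, zero_mul] at e2
      exact Nat.card_pos.ne' e2.symm)
    have h5 : (YI M I).relIndex V * Nat.card ↥(V ⊓ YI M I) ≤
        (YI M I).relIndex V * Nat.card ↥(V ⊓ centralizer (A : Set G)) := by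
      rw [e2, ← e1]
      exact Nat.mul_le_mul_right _ h3
    exact Nat.le_of_mul_le_mul_left h5 hpos
  have h5 := Subgroup.eq_of_le_of_card_ge hle h4
  have h6 : v ∈ V ⊓ YI M I := ⟨hv, hv, h0⟩
  rw [← h5] at h6
  exact h6.2

/-- a subgroup acting as a root group inside an offender centralises `{v | e v i 1 = 0}` -/
theorem RtD.fix [Finite G] {I : Set (Fin k)} {A B : Subgroup G} (hAS : A ≤ S) (hBA : B ≤ A)
    (h1 : ∀ a ∈ A, ∃ b : Fin k → F, (∀ i, i ∉ I → b i = 0) ∧ Ac M a fun i => up (b i))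
    (h2 : ∀ b : Fin k → F, (∀ i, i ∉ I → b i = 0) → ∃ a ∈ A, Ac M a fun i => up (b i)) (hoff : OffM V A)
    (hB : RtD M i B) {v : G} (hv : v ∈ V) (h0 : M.e v i 1 = 0) : v ∈ centralizer (B : Set G) := by
  classical
  obtain ⟨v₁, hv₁, hv₁i, hv₁j⟩ := exists_pt (M := M) i (M.e v i)
  have h3 : v₁ ∈ centralizer (A : Set G) := by
    refine h.fixI hAS h1 h2 hoff hv₁ fun j _ => ?_
    by_cases hj : j = i
    · subst hj; rw [hv₁i]; exact h0
    · rw [hv₁j j hj]; rfl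
  refine mem_centralizer_iff.2 fun a ha => ?_
  obtain ⟨c, hc⟩ := hB.acts a ha
  have hw : v₁⁻¹ * v ∈ V := mul_mem (inv_mem hv₁) hv
  have h4 : a * (v₁⁻¹ * v) * a⁻¹ = v₁⁻¹ * v := by
    refine h.blk (h.SP (hB.le ha)) hc hw fun l hl => ?_
    have hli : l = i := by
      by_contra hne
      exact hl (Pi.mulSingle_eq_of_ne hne _)
    subst hli
    rw [M.mul _ (inv_mem hv₁) v hv, Pi.add_apply, e_inv hv₁, Pi.neg_apply, hv₁i, neg_add_cancel]
  have h5 := mem_centralizer_iff.1 h3 a (hBA ha)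
  have h6 : a * v₁ * a⁻¹ = v₁ := by rw [h5]; group
  have h7 : a * v * a⁻¹ = v := by
    calc a * v * a⁻¹ = (a * v₁ * a⁻¹) * (a * (v₁⁻¹ * v) * a⁻¹) := by group
      _ = v := by rw [h6, h4]; group
  exact mul_inv_eq_iff_eq_mul.1 h7

/-- the data of an offender: the support `I` is not empty -/
theorem AmbD.offI [Finite G] (hAS : A ≤ S) (hoff : OffM V A) : ∃ I : Set (Fin k), I.Nonempty ∧
    (∀ a ∈ A, ∃ b : Fin k → F, (∀ i, i ∉ I → b i = 0) ∧ Ac M a fun i => up (b i)) ∧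
      (∀ b : Fin k → F, (∀ i, i ∉ I → b i = 0) → ∃ a ∈ A, Ac M a fun i => up (b i)) := by
  obtain ⟨I, h1, h2⟩ := M.offM A hAS hoff
  refine ⟨I, ?_, h1, h2⟩
  rw [Set.nonempty_iff_ne_empty]
  rintro rfl
  refine hoff.ne fun a ha => ?_
  obtain ⟨b, hb, hac⟩ := h1 a ha
  have h3 : (fun i => up (b i) : Fin k → Matrix.SpecialLinearGroup (Fin 2) F) = 1 := by
    funext j
    rw [hb j (Set.notMem_empty j)]; exact up_zero
  rw [h3] at hac
  exact h.cent (h.SP (hAS ha)) hac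

/-- a root group which is an offender: `C_V(A) = {v | e v i 1 = 0}` -/
theorem RtD.cent_iff [Finite G] (hA : RtD M i A) (hoff : OffM V A) {v : G} (hv : v ∈ V) :
    v ∈ centralizer (A : Set G) ↔ M.e v i 1 = 0 := by
  classical
  refine ⟨hA.zero_of_cent hv, fun h0 => ?_⟩
  refine h.fixI (I := {i}) hA.le (fun a ha => ?_) (fun b hb => ?_) hoff hv (fun j hj => by
    rw [Set.mem_singleton_iff.1 hj]; exact h0)
  · obtain ⟨c, hc⟩ := hA.acts a ha
    refine ⟨Pi.single i c, fun j hj => Pi.single_eq_of_ne hj _, ?_⟩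
    rw [key_single]; exact hc
  · obtain ⟨a, ha, hac⟩ := hA.ex (b i)
    refine ⟨a, ha, ?_⟩
    have e : (fun j => up (b j) : Fin k → Matrix.SpecialLinearGroup (Fin 2) F) = Pi.mulSingle i (up (b i)) := by
      rw [← key_single]
      funext j
      by_cases hj : j = i
      · subst hj; rw [Pi.single_eq_same]
      · rw [Pi.single_eq_of_ne hj, hb j hj]
    rw [e]; exact hac

/-- `V / C_V(A)` has order `|F|`. -/
theorem RtD.relIndex' [Finite G] (hA : RtD M i A) (hoff : OffM V A) :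
    (centralizer (A : Set G)).relIndex V = Nat.card F := by
  have h1 : (centralizer (A : Set G)).relIndex V = (YI M {i}).relIndex V := by
    unfold Subgroup.relIndex
    congr 1
    ext ⟨v, hv⟩
    rw [mem_subgroupOf, mem_subgroupOf]
    constructor
    · intro hc
      exact ⟨hv, fun j hj => by rw [Set.mem_singleton_iff.1 hj]; exact hA.zero_of_cent hv hc⟩
    · intro hy
      exact (hA.cent_iff h hoff hv).2 (hy.2 i rfl)
  rw [h1, YI_relIndex, Nat.card_fun]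
  simp

/-- a subgroup acting as the root group of block `i` in an offender is an offender -/
theorem RtD.offM [Finite G] {I : Set (Fin k)} {A B : Subgroup G} (hAS : A ≤ S) (hBA : B ≤ A)
    (h1 : ∀ a ∈ A, ∃ b : Fin k → F, (∀ i, i ∉ I → b i = 0) ∧ Ac M a fun i => up (b i))
    (h2 : ∀ b : Fin k → F, (∀ i, i ∉ I → b i = 0) → ∃ a ∈ A, Ac M a fun i => up (b i)) (hoff : OffM V A)
    (hB : RtD M i B) : OffM V B where
  sq a ha := hoff.sq a (hBA ha)
  comm a ha b hb := hoff.comm a (hBA ha) b (hBA hb)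
  ne h0 := by
    obtain ⟨v, hv, hvi, -⟩ := exists_pt (M := M) i ![0, 1]
    have h1 := hB.zero_of_cent hv (NO3b.EZero.cent_symm h0 hv)
    rw [hvi] at h1
    exact one_ne_zero (α := F) h1
  le := by
    refine relIndex_le_iff.2 ?_
    rw [hB.relIndex h]
    have h3 : (centralizer (B : Set G)).relIndex V = (YI M {i}).relIndex V := by
      unfold Subgroup.relIndex
      congr 1
      ext ⟨v, hv⟩
      rw [mem_subgroupOf, mem_subgroupOf]
      constructor
      · intro hc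
        exact ⟨hv, fun j hj => by rw [Set.mem_singleton_iff.1 hj]; exact hB.zero_of_cent hv hc⟩
      · intro hy
        exact RtD.fix h hAS hBA h1 h2 hoff hB hv (hy.2 i rfl)
    rw [h3, YI_relIndex, Nat.card_fun]
    simp

/-- **A minimal offender is a root group.** -/
theorem RtD.of [Finite G] (hA : MinOffM V S A) : ∃ i, RtD M i A := by
  classical
  obtain ⟨I, ⟨i, hi⟩, h1, h2⟩ := h.offI hA.le hA.off
  let B : Subgroup G :=
    { carrier := {a | a ∈ A ∧ ∃ c : F, Ac M a (Pi.mulSingle i (up c))}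
      mul_mem' := by
        rintro a b ⟨ha, c, hc⟩ ⟨hb, d, hd⟩
        refine ⟨mul_mem ha hb, c + d, ?_⟩
        rw [← mulSingle_mul]
        exact h.mul (h.SP (hA.le hb)) hc hd
      one_mem' := ⟨one_mem _, 0, by rw [mulSingle_zero]; exact h.one (one_mem _)⟩
      inv_mem' := by
        rintro a ⟨ha, c, hc⟩
        refine ⟨inv_mem ha, -c, ?_⟩
        rw [← mulSingle_inv]
        exact h.inv (h.SP (hA.le ha)) hc }
  have hBA : B ≤ A := fun a ha => ha.1
  have hB : RtD M i B := by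
    refine ⟨hBA.trans hA.le, fun a ha => ha.2, fun c => ?_⟩
    have hs : ∀ j, j ∉ I → (Pi.single i c : Fin k → F) j = 0 := by
      intro j hj
      have h3 : j ≠ i := fun h3 => hj (by rw [h3]; exact hi)
      rw [Pi.single_apply, if_neg h3]
    obtain ⟨a, ha, hac⟩ := h2 (Pi.single i c) hs
    rw [key_single] at hac
    exact ⟨a, ⟨ha, c, hac⟩, hac⟩
  have hm := hA.min B hBA (RtD.offM h hA.le hBA h1 h2 hA.off hB)
  have hAB : A ⊓ centralizer (V : Set G) = B ⊓ centralizer (V : Set G) := by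
    refine le_antisymm (fun a ha => ⟨⟨ha.1, 0, ?_⟩, ha.2⟩) (inf_le_inf_right _ hBA)
    rw [mulSingle_zero]; exact h.one ha.2
  have e1 := Star.rel_mul_card A (centralizer (V : Set G))
  have e2 := Star.rel_mul_card B (centralizer (V : Set G))
  rw [← hAB] at e2
  have h3 : Nat.card A ≤ Nat.card B := by
    rw [← e1, ← e2]
    exact Nat.mul_le_mul_right _ hm
  have h4 : B = A := Subgroup.eq_of_le_of_card_ge hBA h3
  exact ⟨i, h4 ▸ hB⟩

/-- **An offender with constant commutators is a root group.** -/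
theorem RtD.of_const [Finite G] (hAS : A ≤ S) (hoff : OffM V A) (hc : Const V A) : ∃ i, RtD M i A := by
  classical
  obtain ⟨I, ⟨i, hi⟩, h1, h2⟩ := h.offI hAS hoff
  have hcm : ∀ (a v : G), v ∈ V → a ∈ A → a * v * a⁻¹ ∈ V := fun a v hv ha => h.cm (h.SP (hAS ha)) hv
  -- the commutator of an element with `v_j`
  have hel : ∀ j ∈ I, ∃ v ∈ V, M.e v j = ![0, 1] ∧ (∀ l, l ≠ j → M.e v l = 0) ∧
      ∃ a ∈ A, M.e (a * v * a⁻¹ * v⁻¹) j = ![1, 0] := by
    intro j hj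
    obtain ⟨v, hv, hvj, hvl⟩ := exists_pt (M := M) j ![0, 1]
    obtain ⟨a, ha, hac⟩ := h2 (Pi.single j 1) (fun l hl => by
      have : l ≠ j := fun h3 => hl (by rw [h3]; exact hj)
      rw [Pi.single_apply, if_neg this])
    refine ⟨v, hv, hvj, hvl, a, ha, ?_⟩
    rw [M.mul _ (hcm a v hv ha) _ (inv_mem hv), e_inv hv, Pi.add_apply, Pi.neg_apply, hac.1 v hv j, hvj]
    simp only [Pi.single_eq_same]
    rw [ap_up]
    exact ext2 (by simp) (by simp)
  have huniq : ∀ j ∈ I, j = i := by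
    intro j hj
    by_contra hne
    obtain ⟨v, hv, hvi, hvl, a, ha, hav⟩ := hel i hi
    obtain ⟨w, hw, hwj, hwl, b, hb, hbw⟩ := hel j hj
    have hvc : v ∉ centralizer (A : Set G) := fun h3 => by
      have h4 : a * v * a⁻¹ * v⁻¹ = 1 := by rw [mem_centralizer_iff.1 h3 a ha]; group
      rw [h4, e_one] at hav
      exact one_ne_zero (α := F) (congrFun hav 0).symm
    have hwc : w ∉ centralizer (A : Set G) := fun h3 => by
      have h4 : b * w * b⁻¹ * w⁻¹ = 1 := by rw [mem_centralizer_iff.1 h3 b hb]; group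
      rw [h4, e_one] at hbw
      exact one_ne_zero (α := F) (congrFun hbw 0).symm
    obtain ⟨d, hd, h3⟩ := hc v hv hvc w hw hwc a ha
    obtain ⟨β, -, hdac⟩ := h1 d hd
    have hwi : M.e w i = 0 := hwl i (Ne.symm hne)
    rw [h3, M.mul _ (hcm d w hw hd) _ (inv_mem hw), e_inv hw, Pi.add_apply, Pi.neg_apply, hdac.1 w hw i, hwi,
      ap_up] at hav
    have h4 := congrFun hav 0
    simp at h4
  refine ⟨i, hAS, fun a ha => ?_, fun c => ?_⟩
  · obtain ⟨b, hb, hac⟩ := h1 a ha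
    refine ⟨b i, ?_⟩
    have h3 : b = Pi.single i (b i) := by
      funext j
      by_cases hj : j = i
      · subst hj; rw [Pi.single_eq_same]
      · rw [Pi.single_eq_of_ne hj, hb j fun h4 => hj (huniq j h4)]
    rw [← key_single, ← h3]
    exact hac
  · obtain ⟨a, ha, hac⟩ := h2 (Pi.single i c) (fun l hl => by
      have : l ≠ i := fun h3 => hl (by rw [h3]; exact hi)
      rw [Pi.single_apply, if_neg this])
    refine ⟨a, ha, ?_⟩
    rw [← key_single]
    exact hac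

/-- a root group which is an offender is a minimal offender -/
theorem RtD.min [Finite G] (hA : RtD M i A) (hoff : OffM V A) : MinOffM V S A := by
  classical
  refine ⟨hA.le, hoff, fun B hBA hB => ?_⟩
  obtain ⟨I, ⟨j, hj⟩, h1, h2⟩ := h.offI (hBA.trans hA.le) hB
  have hij : j = i := by
    by_contra hne
    obtain ⟨v, hv, hvj, -⟩ := exists_pt (M := M) j ![0, 1]
    obtain ⟨a, ha, hac⟩ := h2 (Pi.single j 1) (fun l hl => by
      have : l ≠ j := fun h3 => hl (by rw [h3]; exact hj)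
      rw [Pi.single_apply, if_neg this])
    obtain ⟨c, hc⟩ := hA.acts a (hBA ha)
    have h3 := hac.1 v hv j
    rw [ac_ne hc hv hne, hvj] at h3
    simp only [Pi.single_eq_same] at h3
    rw [ap_up] at h3
    have h4 := congrFun h3 0
    simp at h4
  subst hij
  have hRB : RtD M j B := by
    refine ⟨hBA.trans hA.le, fun a ha => hA.acts a (hBA ha), fun c => ?_⟩
    obtain ⟨a, ha, hac⟩ := h2 (Pi.single j c) (fun l hl => by
      have : l ≠ j := fun h3 => hl (by rw [h3]; exact hj)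
      rw [Pi.single_apply, if_neg this])
    refine ⟨a, ha, ?_⟩
    rw [← key_single]
    exact hac
  rw [hA.relIndex h, hRB.relIndex h]

theorem AmbD.const [Finite G] (hAS : A ≤ S) (hoff : OffM V A) (hc : Const V A) : MinOffM V S A := by
  obtain ⟨i, hi⟩ := RtD.of_const h hAS hoff hc
  exact hi.min h hoff

/-- `C_A(r) = C_A(V)` for `r ∈ V - C(A)` -/
theorem RtD.cent [Finite G] (hA : RtD M i A) (hoff : OffM V A) {r a : G} (hr : r ∈ V)
    (hrA : r ∉ centralizer (A : Set G)) (ha : a ∈ A) (har : a * r = r * a) : a ∈ centralizer (V : Set G) := by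
  have h0 : M.e r i 1 ≠ 0 := fun h0 => hrA ((hA.cent_iff h hoff hr).2 h0)
  obtain ⟨c, hc⟩ := hA.acts a ha
  have h1 := ac_at hc hr
  have h2 : a * r * a⁻¹ = r := by rw [har]; group
  rw [h2] at h1
  have h3 := congrFun h1 0
  simp only [Matrix.cons_val_zero] at h3
  have h4 : c * M.e r i 1 = 0 := left_eq_add.1 h3
  have h5 : c = 0 := (mul_eq_zero.1 h4).resolve_right h0
  rw [h5, mulSingle_zero] at hc
  exact h.cent (h.SP (hA.le ha)) hc

end root

end Cfsg.Agent.Omega.NO3S.SOne.NTD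

end

end
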